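import Mathlib
import Cfsg.Prelude.Def_FusionComponents
import Cfsg.Agent.CSE.Largest
import Cfsg.Agent.Lead.FusionNormal
import Cfsg.Agent.Lead.FusionStab

set_option autoImplicit false

/-!
# S5138 (central products), piece P4: `T₂` centralizes `E₁`

`E₁ ⊴ F` over `T₁`, `T₂` strongly closed in `F`, `[T₁, T₂] = 1`, `T₁ ∩ T₂ ≤ Z(E₁)`.  Then
`T₂ ≤ C_S(E₁)` (`cps_cent_le_cseC`): for `x ∈ T₂` and a good `p'`-lift `β` of a `p'`-element of
`Aut_{E₁}(U)`, `x⁻¹ β(x) ∈ Z(U) ∩ T₂ ≤ T₁ ∩ T₂` is fixed by `β`, so `β^n(x) = x (x⁻¹ β(x))^n`, and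
`x⁻¹ β(x)` is a `p`-element whose order divides the `p'`-number `o(β)`.  Hence every map of `E₁` extends to a
map of `F` on `P ⊔ T₂` fixing `T₂` (`cps_cent_ext`).
-/

namespace Cfsg.Agent.CPS

open Cfsg Cfsg.FusionSystem Cfsg.Agent.Lead Cfsg.Agent.CSE

variable {Ω : Type*} [Group Ω] {S : Subgroup Ω}

/-- Maps of a system fix the elements of its centre. -/
theorem cps_cent_map_center {T : Subgroup Ω} [Finite T] (E : FusionSystem T) {P : Subgroup Ω}
    {φ : P →* Ω} (hφ : φ ∈ E.Hom P) (x : P) (hx : (x : Ω) ∈ E.center) : φ x = x := by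
  obtain ⟨ψ, -, hψP, hψZ⟩ := (Fusion.center_isCentral E).2 P φ hφ
  have h1 := hψP x
  have h2 := hψZ ⟨x, hx⟩
  have h12 : (Subgroup.inclusion (le_sup_left : P ≤ P ⊔ E.center) x) =
      Subgroup.inclusion (le_sup_right : E.center ≤ P ⊔ E.center) ⟨x, hx⟩ := Subtype.ext rfl
  rw [h12, h2] at h1
  exact h1.symm

/-- Automorphisms of a system fix the elements of its centre. -/
theorem cps_cent_aut_center {T : Subgroup Ω} [Finite T] (E : FusionSystem T) {U : Subgroup Ω}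
    (hUT : U ≤ T) (α : MulAut U) (hα : α ∈ E.autGroup U) (x : U) (hx : (x : Ω) ∈ E.center) :
    α x = x := by
  have h1 := (Fusion.mem_autGroup_iff E hUT α).mp hα
  have h2 := cps_cent_map_center E h1 x hx
  exact Subtype.ext h2

/-- **C4.** `T₂ ≤ C_S(E₁)`. -/
theorem cps_cent_le_cseC [Finite S] (p : ℕ) [Fact p.Prime] {T₁ T₂ : Subgroup Ω}
    {F : FusionSystem S} {E₁ : FusionSystem T₁} (h : Setup p F E₁) (hT₂ : F.StronglyClosed T₂)
    (hcomm : T₂ ≤ centralizerIn S T₁) (hZ : T₁ ⊓ T₂ ≤ E₁.center) : T₂ ≤ cseC p F E₁ := by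
  have hT₁S : T₁ ≤ S := h.le
  have hfinT₁ : Finite T₁ := Fusion.finite_of_le hT₁S
  intro x hx
  refine ⟨hcomm hx, ?_⟩
  intro U hU α hα hcop β hβ hβcop y hy
  obtain ⟨hβF, hβU, hβX⟩ := hβ
  have hUT : U ≤ T₁ := hU.1
  have hUS : U ≤ S := hUT.trans hT₁S
  have hPS : U ⊔ centralizerIn S U ≤ S := sup_le hUS inf_le_left
  have hxD : x ∈ centralizerIn S U := by
    have h1 := hcomm hx
    refine Subgroup.mem_inf.mpr ⟨(Subgroup.mem_inf.mp h1).1, ?_⟩
    exact Subgroup.centralizer_le hUT (Subgroup.mem_inf.mp h1).2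
  have hyD : (y : Ω) ∈ centralizerIn S U := hy ▸ hxD
  have hyT₂ : (y : Ω) ∈ T₂ := hy ▸ hx
  -- the commutator `z`
  have hz := hβX y hyD
  have hβyT₂ : ((β y : ↥(U ⊔ centralizerIn S U)) : Ω) ∈ T₂ :=
    Fusion.aut_mem_of_stronglyClosed F hPS hT₂ β hβF y hyT₂
  have hzU : (y : Ω)⁻¹ * ((β y : ↥(U ⊔ centralizerIn S U)) : Ω) ∈ U := cseZ_le U hz
  have hzZ0 : (y : Ω)⁻¹ * ((β y : ↥(U ⊔ centralizerIn S U)) : Ω) ∈ E₁.center :=
    hZ (Subgroup.mem_inf.mpr ⟨hUT hzU, T₂.mul_mem (T₂.inv_mem hyT₂) hβyT₂⟩)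
  set z : U := ⟨(y : Ω)⁻¹ * ((β y : ↥(U ⊔ centralizerIn S U)) : Ω), hzU⟩ with hzdef
  have hαz : α z = z := cps_cent_aut_center E₁ hUT α hα z hzZ0
  have hβz : β (Subgroup.inclusion le_sup_left z) = Subgroup.inclusion le_sup_left z := by
    apply Subtype.ext
    rw [hβU z, hαz]
    rfl
  have hβy : β y = y * Subgroup.inclusion le_sup_left z := by
    apply Subtype.ext
    show ((β y : ↥(U ⊔ centralizerIn S U)) : Ω) =
      (y : Ω) * ((y : Ω)⁻¹ * ((β y : ↥(U ⊔ centralizerIn S U)) : Ω))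
    rw [mul_inv_cancel_left]
  have hpow : ∀ n : ℕ, (β ^ n) y = y * (Subgroup.inclusion le_sup_left z) ^ n := by
    intro n
    induction n with
    | zero => simp
    | succ n ih =>
      rw [pow_succ', MulAut.mul_apply, ih, map_mul, map_pow, hβz, hβy, mul_assoc, ← pow_succ']
  -- `z ^ o(β) = 1`
  have h1 := hpow (orderOf β)
  rw [pow_orderOf_eq_one, MulAut.one_apply] at h1
  have h2 : (Subgroup.inclusion (le_sup_left : U ≤ U ⊔ centralizerIn S U) z) ^ orderOf β = 1 := by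
    have := mul_left_cancel (a := y) (b := 1)
      (c := (Subgroup.inclusion (le_sup_left : U ≤ U ⊔ centralizerIn S U) z) ^ orderOf β)
      (by rw [mul_one]; exact h1)
    exact this.symm
  have h3 : z ^ orderOf β = 1 := by
    have h4 : Subgroup.inclusion (le_sup_left : U ≤ U ⊔ centralizerIn S U) (z ^ orderOf β) = 1 := by
      rw [map_pow]; exact h2
    exact (Subgroup.inclusion_injective le_sup_left) (by rw [h4, map_one])
  -- `z` is a `p`-element
  have hUp : IsPGroup p U := h.hS.to_le hUS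
  obtain ⟨k, hk⟩ := hUp z
  have hz1 : z = 1 := by
    have hd1 : orderOf z ∣ orderOf β := orderOf_dvd_of_pow_eq_one h3
    have hd2 : orderOf z ∣ p ^ k := orderOf_dvd_of_pow_eq_one hk
    have hc : (orderOf z).Coprime (p ^ k) :=
      Nat.Coprime.pow_right k (Nat.Coprime.coprime_dvd_left hd1 hβcop)
    have : orderOf z = 1 := Nat.Coprime.eq_one_of_dvd hc hd2
    exact orderOf_eq_one_iff.mp this
  rw [hβy, hz1, map_one, mul_one]
  exact hy

end Cfsg.Agent.CPS
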