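import Mathlib

set_option autoImplicit false

/-!
# S5138 (central products), piece P1: the hull of a subgroup of `T₁ T₂`

`T₁, T₂` are elementwise commuting subgroups of a group.  For `Q ≤ T₁ T₂` the *projections*
`Q̄₁ = T₁ ∩ Q T₂`, `Q̄₂ = T₂ ∩ Q T₁` and the *hull* `Q̄ = Q̄₁ Q̄₂`.  Pure group theory.
The names of the frozen headers (notes/S5138_headers.lean.txt) first; the `cps_hull_*` lemmas are extras.
-/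

namespace Cfsg.Agent.CPS

variable {Ω : Type*} [Group Ω]

/-- `T₁` and `T₂` commute elementwise. -/
def CpsComm (T₁ T₂ : Subgroup Ω) : Prop := ∀ x ∈ T₁, ∀ y ∈ T₂, x * y = y * x

/-- the projection of `Q ≤ T₁T₂` to `T₁`: `T₁ ∩ Q T₂`. -/
def cpsProj (T₁ T₂ Q : Subgroup Ω) : Subgroup Ω := T₁ ⊓ (Q ⊔ T₂)

/-- the hull of `Q`: the product of its two projections. -/
def cpsHull (T₁ T₂ Q : Subgroup Ω) : Subgroup Ω := cpsProj T₁ T₂ Q ⊔ cpsProj T₂ T₁ Q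

theorem cpsComm_of_commutator {T₁ T₂ : Subgroup Ω} (hc : ⁅T₁, T₂⁆ = ⊥) : CpsComm T₁ T₂ := by
  intro x hx y hy
  have h := Subgroup.commutator_eq_bot_iff_le_centralizer.mp hc hx
  exact (Subgroup.mem_centralizer_iff.mp h y hy).symm

theorem cpsComm_symm {T₁ T₂ : Subgroup Ω} (hc : CpsComm T₁ T₂) : CpsComm T₂ T₁ :=
  fun x hx y hy => (hc y hy x hx).symm

/-- if `A` normalizes `B` then the elements of `A ⊔ B` are products -/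
theorem cps_hull_exists_mul_of_normalizes {A B : Subgroup Ω}
    (h : ∀ a ∈ A, ∀ b ∈ B, a * b * a⁻¹ ∈ B) {x : Ω} (hx : x ∈ A ⊔ B) :
    ∃ a ∈ A, ∃ b ∈ B, x = a * b := by
  let AB : Subgroup Ω :=
    { carrier := {x | ∃ a ∈ A, ∃ b ∈ B, x = a * b}
      one_mem' := ⟨1, A.one_mem, 1, B.one_mem, by simp⟩
      mul_mem' := by
        rintro _ _ ⟨a, ha, b, hb, rfl⟩ ⟨a', ha', b', hb', rfl⟩
        refine ⟨a * a', A.mul_mem ha ha', a'⁻¹ * b * a'⁻¹⁻¹ * b',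
          B.mul_mem (h a'⁻¹ (A.inv_mem ha') b hb) hb', ?_⟩
        group
      inv_mem' := by
        rintro _ ⟨a, ha, b, hb, rfl⟩
        refine ⟨a⁻¹, A.inv_mem ha, a * b⁻¹ * a⁻¹, h a ha b⁻¹ (B.inv_mem hb), ?_⟩
        group }
  have hA : A ≤ AB := fun a ha => ⟨a, ha, 1, B.one_mem, by simp⟩
  have hB : B ≤ AB := fun b hb => ⟨1, A.one_mem, b, hb, by simp⟩
  exact (sup_le hA hB) hx

theorem cps_hull_exists_mul {T₁ T₂ : Subgroup Ω} (hc : CpsComm T₁ T₂) {x : Ω}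
    (hx : x ∈ T₁ ⊔ T₂) : ∃ a ∈ T₁, ∃ b ∈ T₂, x = a * b := by
  refine cps_hull_exists_mul_of_normalizes (fun a ha b hb => ?_) hx
  rw [hc a ha b hb, mul_inv_cancel_right]
  exact hb

/-- a subgroup of `T₁ T₂` normalizes `T₂` -/
theorem cps_hull_conj_mem {T₁ T₂ Q : Subgroup Ω} (hc : CpsComm T₁ T₂) (hQ : Q ≤ T₁ ⊔ T₂)
    {q t : Ω} (hq : q ∈ Q) (ht : t ∈ T₂) : q * t * q⁻¹ ∈ T₂ := by
  obtain ⟨a, ha, b, hb, rfl⟩ := cps_hull_exists_mul hc (hQ hq)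
  have h1 : b * t * b⁻¹ ∈ T₂ := T₂.mul_mem (T₂.mul_mem hb ht) (T₂.inv_mem hb)
  have h2 : a * b * t * (a * b)⁻¹ = a * (b * t * b⁻¹) * a⁻¹ := by group
  rw [h2, hc a ha _ h1, mul_inv_cancel_right]
  exact h1

theorem mem_cpsProj {T₁ T₂ Q : Subgroup Ω} (hc : CpsComm T₁ T₂) (hQ : Q ≤ T₁ ⊔ T₂) {x : Ω} :
    x ∈ cpsProj T₁ T₂ Q ↔ x ∈ T₁ ∧ ∃ y ∈ T₂, x * y ∈ Q := by
  constructor
  · rintro ⟨hy1, hy2⟩
    refine ⟨hy1, ?_⟩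
    obtain ⟨q, hq, t, ht, rfl⟩ :=
      cps_hull_exists_mul_of_normalizes (fun q hq t ht => cps_hull_conj_mem hc hQ hq ht) hy2
    exact ⟨t⁻¹, T₂.inv_mem ht, by rw [mul_inv_cancel_right]; exact hq⟩
  · rintro ⟨hy1, b, hb, hyb⟩
    refine ⟨hy1, ?_⟩
    have : x = x * b * b⁻¹ := by group
    rw [this]
    exact Subgroup.mul_mem _ (Subgroup.mem_sup_left hyb) (Subgroup.mem_sup_right (T₂.inv_mem hb))

theorem inf_le_cpsProj (T₁ T₂ Q : Subgroup Ω) : T₁ ⊓ T₂ ≤ cpsProj T₁ T₂ Q :=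
  le_inf inf_le_left (inf_le_right.trans le_sup_right)

theorem mem_cpsHull {T₁ T₂ Q : Subgroup Ω} (hc : CpsComm T₁ T₂) {x : Ω} :
    x ∈ cpsHull T₁ T₂ Q ↔ ∃ x₁ ∈ cpsProj T₁ T₂ Q, ∃ x₂ ∈ cpsProj T₂ T₁ Q, x = x₁ * x₂ := by
  have hc' : CpsComm (cpsProj T₁ T₂ Q) (cpsProj T₂ T₁ Q) :=
    fun a ha b hb => hc a ha.1 b hb.1
  constructor
  · intro hx
    exact cps_hull_exists_mul hc' hx
  · rintro ⟨x₁, h₁, x₂, h₂, rfl⟩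
    exact Subgroup.mul_mem _ (Subgroup.mem_sup_left h₁) (Subgroup.mem_sup_right h₂)

/-- the two components of an element of `Q` lie in the projections -/
theorem cps_hull_components {T₁ T₂ Q : Subgroup Ω} (hc : CpsComm T₁ T₂) (hQ : Q ≤ T₁ ⊔ T₂)
    {a b : Ω} (ha : a ∈ T₁) (hb : b ∈ T₂) (hab : a * b ∈ Q) :
    a ∈ cpsProj T₁ T₂ Q ∧ b ∈ cpsProj T₂ T₁ Q := by
  refine ⟨(mem_cpsProj hc hQ).mpr ⟨ha, b, hb, hab⟩, ?_⟩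
  rw [sup_comm] at hQ
  refine (mem_cpsProj (cpsComm_symm hc) hQ).mpr ⟨hb, a, ha, ?_⟩
  rw [← hc a ha b hb]; exact hab

/-- every element of `Q` is `x₁ x₂` with `x_i` in the projections. -/
theorem exists_mul_of_mem {T₁ T₂ Q : Subgroup Ω} (hc : CpsComm T₁ T₂) (hQ : Q ≤ T₁ ⊔ T₂) {x : Ω}
    (hx : x ∈ Q) : ∃ x₁ ∈ cpsProj T₁ T₂ Q, ∃ x₂ ∈ cpsProj T₂ T₁ Q, x = x₁ * x₂ := by
  obtain ⟨a, ha, b, hb, rfl⟩ := cps_hull_exists_mul hc (hQ hx)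
  obtain ⟨h1, h2⟩ := cps_hull_components hc hQ ha hb hx
  exact ⟨a, h1, b, h2, rfl⟩

theorem le_cpsHull {T₁ T₂ Q : Subgroup Ω} (hc : CpsComm T₁ T₂) (hQ : Q ≤ T₁ ⊔ T₂) :
    Q ≤ cpsHull T₁ T₂ Q := by
  intro q hq
  exact (mem_cpsHull hc).mpr (exists_mul_of_mem hc hQ hq)

theorem cpsHull_le (T₁ T₂ Q : Subgroup Ω) : cpsHull T₁ T₂ Q ≤ T₁ ⊔ T₂ :=
  sup_le (inf_le_left.trans le_sup_left) (inf_le_left.trans le_sup_right)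

theorem cpsProj_mono {T₁ T₂ Q Q' : Subgroup Ω} (h : Q ≤ Q') : cpsProj T₁ T₂ Q ≤ cpsProj T₁ T₂ Q' :=
  inf_le_inf_left _ (sup_le_sup_right h _)

theorem cpsHull_mono {T₁ T₂ Q Q' : Subgroup Ω} (h : Q ≤ Q') : cpsHull T₁ T₂ Q ≤ cpsHull T₁ T₂ Q' :=
  sup_le_sup (cpsProj_mono h) (cpsProj_mono h)

/-- `Q̄ = Q Q̄₁` -/
theorem cps_hull_eq_sup_proj {T₁ T₂ Q : Subgroup Ω} (hc : CpsComm T₁ T₂) (hQ : Q ≤ T₁ ⊔ T₂) :
    cpsHull T₁ T₂ Q = Q ⊔ cpsProj T₁ T₂ Q := by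
  apply le_antisymm
  · refine sup_le le_sup_right ?_
    intro y hy
    have hQ' : Q ≤ T₂ ⊔ T₁ := by rw [sup_comm]; exact hQ
    obtain ⟨hy2, a, ha, hya⟩ := (mem_cpsProj (cpsComm_symm hc) hQ').mp hy
    -- `y * a ∈ Q`, `a ∈ T₁`; `a⁻¹ ∈ Q̄₁`
    have h1 : a⁻¹ ∈ cpsProj T₁ T₂ Q := by
      refine (mem_cpsProj hc hQ).mpr ⟨T₁.inv_mem ha, y⁻¹, T₂.inv_mem hy2, ?_⟩
      have : a⁻¹ * y⁻¹ = (y * a)⁻¹ := by group
      rw [this]; exact Q.inv_mem hya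
    have : y = y * a * a⁻¹ := by group
    rw [this]
    exact Subgroup.mul_mem _ (Subgroup.mem_sup_left hya) (Subgroup.mem_sup_right h1)
  · exact sup_le (le_cpsHull hc hQ) le_sup_left

/-- the first projection of a product-shaped subgroup containing `T₁ ∩ T₂` -/
theorem cps_hull_proj_of_prod {T₁ T₂ R₁ R₂ : Subgroup Ω} (hc : CpsComm T₁ T₂) (h1 : R₁ ≤ T₁)
    (h2 : R₂ ≤ T₂) (hZ : T₁ ⊓ T₂ ≤ R₁) : cpsProj T₁ T₂ (R₁ ⊔ R₂) = R₁ := by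
  apply le_antisymm
  · intro y hy
    have hR : R₁ ⊔ R₂ ≤ T₁ ⊔ T₂ := sup_le_sup h1 h2
    obtain ⟨hy1, b, hb, hyb⟩ := (mem_cpsProj hc hR).mp hy
    have hcR : CpsComm R₁ R₂ := fun a ha b hb => hc a (h1 ha) b (h2 hb)
    obtain ⟨r1, hr1, r2, hr2, e⟩ := cps_hull_exists_mul hcR hyb
    -- `r1⁻¹ * y = r2 * b⁻¹ ∈ T₁ ∩ T₂`
    have h3 : r1⁻¹ * y = r2 * b⁻¹ := by
      have : y = r1 * r2 * b⁻¹ := by rw [← e]; group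
      rw [this]; group
    have h4 : r1⁻¹ * y ∈ T₁ ⊓ T₂ :=
      ⟨T₁.mul_mem (T₁.inv_mem (h1 hr1)) hy1, by rw [h3]; exact T₂.mul_mem (h2 hr2) (T₂.inv_mem hb)⟩
    have : y = r1 * (r1⁻¹ * y) := by group
    rw [this]
    exact R₁.mul_mem hr1 (hZ h4)
  · exact le_inf h1 (le_sup_left.trans le_sup_left)

/-- a product-shaped subgroup whose two factors contain `T₁ ∩ T₂` is its own hull -/
theorem cps_hull_of_prod {T₁ T₂ R₁ R₂ : Subgroup Ω} (hc : CpsComm T₁ T₂) (h1 : R₁ ≤ T₁)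
    (h2 : R₂ ≤ T₂) (hZ₁ : T₁ ⊓ T₂ ≤ R₁) (hZ₂ : T₁ ⊓ T₂ ≤ R₂) :
    cpsHull T₁ T₂ (R₁ ⊔ R₂) = R₁ ⊔ R₂ := by
  unfold cpsHull
  rw [cps_hull_proj_of_prod hc h1 h2 hZ₁, sup_comm R₁ R₂,
    cps_hull_proj_of_prod (cpsComm_symm hc) h2 h1 (by rw [inf_comm]; exact hZ₂), sup_comm]

/-- the projections of the hull are the projections. -/
theorem cpsProj_cpsHull {T₁ T₂ Q : Subgroup Ω} (hc : CpsComm T₁ T₂) (hQ : Q ≤ T₁ ⊔ T₂) :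
    cpsProj T₁ T₂ (cpsHull T₁ T₂ Q) = cpsProj T₁ T₂ Q := by
  unfold cpsHull
  exact cps_hull_proj_of_prod hc inf_le_left inf_le_left (inf_le_cpsProj T₁ T₂ Q)

theorem cpsHull_idem {T₁ T₂ Q : Subgroup Ω} (hc : CpsComm T₁ T₂) (hQ : Q ≤ T₁ ⊔ T₂) :
    cpsHull T₁ T₂ (cpsHull T₁ T₂ Q) = cpsHull T₁ T₂ Q := by
  unfold cpsHull
  refine cps_hull_of_prod hc inf_le_left inf_le_left (inf_le_cpsProj T₁ T₂ Q) ?_
  rw [inf_comm]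
  exact inf_le_cpsProj T₂ T₁ Q

/-- the hull of the whole group: projections are `T₁`, `T₂`. -/
theorem cpsProj_top {T₁ T₂ : Subgroup Ω} : cpsProj T₁ T₂ (T₁ ⊔ T₂) = T₁ :=
  inf_eq_left.mpr (le_sup_left.trans le_sup_left)

/-- a subgroup between `Q` and its hull has the same hull -/
theorem cps_hull_eq_of_le {T₁ T₂ Q N : Subgroup Ω} (hc : CpsComm T₁ T₂) (hQ : Q ≤ T₁ ⊔ T₂)
    (h1 : Q ≤ N) (h2 : N ≤ cpsHull T₁ T₂ Q) : cpsHull T₁ T₂ N = cpsHull T₁ T₂ Q := by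
  apply le_antisymm
  · have := cpsHull_mono (T₁ := T₁) (T₂ := T₂) h2
    rwa [cpsHull_idem hc hQ] at this
  · exact cpsHull_mono h1

/-- the same for the projections -/
theorem cps_hull_proj_eq_of_le {T₁ T₂ Q N : Subgroup Ω} (hc : CpsComm T₁ T₂) (hQ : Q ≤ T₁ ⊔ T₂)
    (h1 : Q ≤ N) (h2 : N ≤ cpsHull T₁ T₂ Q) : cpsProj T₁ T₂ N = cpsProj T₁ T₂ Q := by
  apply le_antisymm
  · have := cpsProj_mono (T₁ := T₁) (T₂ := T₂) h2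
    rwa [cpsProj_cpsHull hc hQ] at this
  · exact cpsProj_mono h1

/-- `[x₁, u] ∈ T₁` for `x₁ ∈ T₁`, `u ∈ T₁ T₂` -/
theorem cps_hull_comm_mem {T₁ T₂ : Subgroup Ω} (hc : CpsComm T₁ T₂) {x u : Ω} (hx : x ∈ T₁)
    (hu : u ∈ T₁ ⊔ T₂) : x * u * x⁻¹ * u⁻¹ ∈ T₁ := by
  obtain ⟨a, ha, b, hb, rfl⟩ := cps_hull_exists_mul hc hu
  have h1 : x * (a * b) * x⁻¹ * (a * b)⁻¹ = x * a * (b * x⁻¹) * b⁻¹ * a⁻¹ := by group
  rw [h1, ← hc x⁻¹ (T₁.inv_mem hx) b hb]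
  have h2 : x * a * (x⁻¹ * b) * b⁻¹ * a⁻¹ = x * a * x⁻¹ * a⁻¹ := by group
  rw [h2]
  exact T₁.mul_mem (T₁.mul_mem (T₁.mul_mem hx ha) (T₁.inv_mem hx)) (T₁.inv_mem ha)

/-- conjugation by `x ∈ T₁` fixes the elements of `T₂` -/
theorem cps_hull_conj_eq {T₁ T₂ : Subgroup Ω} (hc : CpsComm T₁ T₂) {x u : Ω} (hx : x ∈ T₁)
    (hu : u ∈ T₂) : x * u * x⁻¹ = u := by
  rw [hc x hx u hu, mul_inv_cancel_right]

end Cfsg.Agent.CPS
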