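import Mathlib
import Cfsg.Prelude.Def_FusionComponents
import Cfsg.Agent.Lead.Fusion
import Cfsg.Agent.Lead.FusionInvariant
import Cfsg.Agent.Lead.FusionNormal
import Cfsg.Agent.Lead.FusionGrun
import Cfsg.Agent.Lead.FusionFactor
import Cfsg.Agent.Lead.FusionFactorSys
import Cfsg.Agent.Lead.FusionMorph3
import Cfsg.Agent.Lead.FusionProduct
import Cfsg.Agent.Lead.FusionProdSat
import Cfsg.Agent.CPS.Hull

/-!
S5138 (project CPS, `notes/S5138_helper8.md`), piece P3 (helper8): the central product system.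

`D₀ = E₁ × E₂` (`Fusion.productSystem`), `Z = {(z, z⁻¹) : z ∈ T₁ ∩ T₂}`, `θ(x, y) = x y`; `D` is the factor system of `D₀`
modulo `Z` read through `θ` (`Fusion.factorSystem`).  When `T₁ ∩ T₂` is central in `E₁` and in `E₂`, `Z` is central in
`D₀`, `D` is a central product of `E₁` and `E₂`, it is saturated, and its maps are the products `φ₁ * φ₂`.
-/

set_option autoImplicit false

namespace Cfsg.Agent.CPS

open Cfsg Cfsg.FusionSystem Cfsg.Agent.Lead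

variable {Ω : Type*} [Group Ω] {S : Subgroup Ω} {T₁ T₂ : Subgroup Ω}

/-- The multiplication map `T₁ × T₂ → Ω`. -/
def cpsTheta (hc : CpsComm T₁ T₂) : ↥(T₁.prod T₂) →* Ω where
  toFun x := (x : Ω × Ω).1 * (x : Ω × Ω).2
  map_one' := by simp
  map_mul' x y := by
    have hy1 : (y : Ω × Ω).1 ∈ T₁ := (Subgroup.mem_prod.mp y.2).1
    have hx2 : (x : Ω × Ω).2 ∈ T₂ := (Subgroup.mem_prod.mp x.2).2
    have h := hc _ hy1 _ hx2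
    show ((x : Ω × Ω).1 * (y : Ω × Ω).1) * ((x : Ω × Ω).2 * (y : Ω × Ω).2) =
      ((x : Ω × Ω).1 * (x : Ω × Ω).2) * ((y : Ω × Ω).1 * (y : Ω × Ω).2)
    calc ((x : Ω × Ω).1 * (y : Ω × Ω).1) * ((x : Ω × Ω).2 * (y : Ω × Ω).2)
        = (x : Ω × Ω).1 * ((y : Ω × Ω).1 * (x : Ω × Ω).2) * (y : Ω × Ω).2 := by group
      _ = (x : Ω × Ω).1 * ((x : Ω × Ω).2 * (y : Ω × Ω).1) * (y : Ω × Ω).2 := by rw [h]
      _ = _ := by group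

theorem cpsTheta_apply (hc : CpsComm T₁ T₂) (x : ↥(T₁.prod T₂)) :
    cpsTheta hc x = (x : Ω × Ω).1 * (x : Ω × Ω).2 := rfl

/-- The kernel of the multiplication map, as a subgroup of `Ω × Ω`. -/
def cpsZ (hc : CpsComm T₁ T₂) : Subgroup (Ω × Ω) where
  carrier := {x | x.1 ∈ T₁ ⊓ T₂ ∧ x.2 = x.1⁻¹}
  one_mem' := ⟨Subgroup.one_mem _, by simp⟩
  mul_mem' := by
    rintro a b ⟨ha, ha'⟩ ⟨hb, hb'⟩
    refine ⟨Subgroup.mul_mem _ ha hb, ?_⟩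
    show a.2 * b.2 = (a.1 * b.1)⁻¹
    rw [ha', hb', mul_inv_rev]
    have h := hc _ (Subgroup.mem_inf.mp ha).1 _ (Subgroup.mem_inf.mp hb).2
    have h2 : (a.1 * b.1)⁻¹ = (b.1 * a.1)⁻¹ := by rw [h]
    rw [← mul_inv_rev, ← mul_inv_rev, h2]
  inv_mem' := by
    rintro a ⟨ha, ha'⟩
    refine ⟨Subgroup.inv_mem _ ha, ?_⟩
    show a.2⁻¹ = (a.1⁻¹)⁻¹
    rw [ha']

theorem mem_cpsZ (hc : CpsComm T₁ T₂) {x : Ω × Ω} :
    x ∈ cpsZ hc ↔ x.1 ∈ T₁ ⊓ T₂ ∧ x.2 = x.1⁻¹ := Iff.rfl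

theorem cpsZ_le (hc : CpsComm T₁ T₂) : cpsZ hc ≤ T₁.prod T₂ := by
  rintro x ⟨hx, hx'⟩
  refine Subgroup.mem_prod.mpr ⟨(Subgroup.mem_inf.mp hx).1, ?_⟩
  rw [hx']
  exact Subgroup.inv_mem _ (Subgroup.mem_inf.mp hx).2

theorem cps_maps_ker (hc : CpsComm T₁ T₂) (s : ↥(T₁.prod T₂)) :
    cpsTheta hc s = 1 ↔ ((s : Ω × Ω)) ∈ cpsZ hc := by
  rw [cpsTheta_apply, mem_cpsZ]
  have h1 : (s : Ω × Ω).1 ∈ T₁ := (Subgroup.mem_prod.mp s.2).1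
  have h2 : (s : Ω × Ω).2 ∈ T₂ := (Subgroup.mem_prod.mp s.2).2
  constructor
  · intro h
    have h3 : (s : Ω × Ω).2 = ((s : Ω × Ω).1)⁻¹ := (eq_inv_of_mul_eq_one_right h)
    refine ⟨Subgroup.mem_inf.mpr ⟨h1, ?_⟩, h3⟩
    have : (s : Ω × Ω).1 = ((s : Ω × Ω).2)⁻¹ := eq_inv_of_mul_eq_one_left h
    rw [this]
    exact Subgroup.inv_mem _ h2
  · rintro ⟨-, h⟩
    rw [h, mul_inv_cancel]

theorem cps_maps_range (hc : CpsComm T₁ T₂) : (cpsTheta hc).range = T₁ ⊔ T₂ := by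
  apply le_antisymm
  · rintro _ ⟨x, rfl⟩
    rw [cpsTheta_apply]
    exact Subgroup.mul_mem _ (Subgroup.mem_sup_left (Subgroup.mem_prod.mp x.2).1)
      (Subgroup.mem_sup_right (Subgroup.mem_prod.mp x.2).2)
  · refine sup_le ?_ ?_
    · intro x hx
      refine ⟨⟨(x, 1), Subgroup.mem_prod.mpr ⟨hx, Subgroup.one_mem _⟩⟩, ?_⟩
      rw [cpsTheta_apply]
      simp
    · intro y hy
      refine ⟨⟨(1, y), Subgroup.mem_prod.mpr ⟨Subgroup.one_mem _, hy⟩⟩, ?_⟩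
      rw [cpsTheta_apply]
      simp

/-- A map of a system extends over a subgroup of the centre, fixing it. -/
theorem cps_maps_ext_central {T : Subgroup Ω} [Finite T] (F : FusionSystem T) {Z₀ P : Subgroup Ω}
    (hZ : Z₀ ≤ F.center) {φ : P →* Ω} (hφ : φ ∈ F.Hom P) :
    ∃ ψ ∈ F.Hom (P ⊔ Z₀), (∀ x : P, ψ (Subgroup.inclusion le_sup_left x) = φ x) ∧
      ∀ z : Z₀, ψ (Subgroup.inclusion le_sup_right z) = z := by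
  obtain ⟨-, hext⟩ := Fusion.center_isCentral F
  obtain ⟨ψ, hψ, hψP, hψZ⟩ := hext P φ hφ
  have hle : P ⊔ Z₀ ≤ P ⊔ F.center := sup_le_sup_left hZ P
  refine ⟨_, Fusion.restrict_mem F hψ hle, fun x => ?_, fun z => ?_⟩
  · exact hψP x
  · exact hψZ ⟨z, hZ z.2⟩

/-- every map of a system fixes the elements of a central subgroup lying in its source. -/
theorem cps_fix_of_le_center [Finite S] (F : FusionSystem S) {Z P : Subgroup Ω} (hZ : Z ≤ F.center)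
    {φ : P →* Ω} (hφ : φ ∈ F.Hom P) (x : P) (hx : (x : Ω) ∈ Z) : φ x = x := by
  obtain ⟨ψ, -, hψP, hψZ⟩ := cps_maps_ext_central F hZ hφ
  have h1 := hψP x
  have h2 := hψZ ⟨x, hx⟩
  have h3 : Subgroup.inclusion (le_sup_left : P ≤ P ⊔ Z) x =
      Subgroup.inclusion (le_sup_right : Z ≤ P ⊔ Z) ⟨x, hx⟩ := Subtype.ext rfl
  rw [← h1, h3, h2]

theorem cps_maps_Z_map_fst (hc : CpsComm T₁ T₂) :
    (cpsZ hc).map (MonoidHom.fst Ω Ω) = T₁ ⊓ T₂ := by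
  ext z
  constructor
  · rintro ⟨x, hx, rfl⟩
    exact hx.1
  · intro hz
    exact ⟨(z, z⁻¹), ⟨hz, rfl⟩, rfl⟩

theorem cps_maps_Z_map_snd (hc : CpsComm T₁ T₂) :
    (cpsZ hc).map (MonoidHom.snd Ω Ω) = T₁ ⊓ T₂ := by
  ext z
  constructor
  · rintro ⟨x, hx, rfl⟩
    show x.2 ∈ T₁ ⊓ T₂
    rw [hx.2]
    exact Subgroup.inv_mem _ hx.1
  · intro hz
    exact ⟨(z⁻¹, z), ⟨Subgroup.inv_mem _ hz, (inv_inv z).symm⟩, rfl⟩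

/-- `Z` is central in the product system. -/
theorem cps_maps_Z_central [Finite T₁] [Finite T₂] (E₁ : FusionSystem T₁) (E₂ : FusionSystem T₂)
    (hc : CpsComm T₁ T₂) (hz₁ : T₁ ⊓ T₂ ≤ E₁.center) (hz₂ : T₁ ⊓ T₂ ≤ E₂.center) :
    (Fusion.productSystem E₁ E₂).IsCentral (cpsZ hc) := by
  refine ⟨cpsZ_le hc, fun P φ hφ => ?_⟩
  obtain ⟨hP, φ₁, hφ₁, φ₂, hφ₂, hprod⟩ := hφ
  obtain ⟨ψ₁, hψ₁, hψ₁P, hψ₁Z⟩ := cps_maps_ext_central E₁ hz₁ hφ₁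
  obtain ⟨ψ₂, hψ₂, hψ₂P, hψ₂Z⟩ := cps_maps_ext_central E₂ hz₂ hφ₂
  have e₁ : P.map (MonoidHom.fst Ω Ω) ⊔ (T₁ ⊓ T₂) = (P ⊔ cpsZ hc).map (MonoidHom.fst Ω Ω) := by
    rw [Subgroup.map_sup, cps_maps_Z_map_fst]
  have e₂ : P.map (MonoidHom.snd Ω Ω) ⊔ (T₁ ⊓ T₂) = (P ⊔ cpsZ hc).map (MonoidHom.snd Ω Ω) := by
    rw [Subgroup.map_sup, cps_maps_Z_map_snd]
  obtain ⟨χ₁, hχ₁, hχ₁v⟩ := Fusion.exists_hom_of_eq E₁ e₁ hψ₁
  obtain ⟨χ₂, hχ₂, hχ₂v⟩ := Fusion.exists_hom_of_eq E₂ e₂ hψ₂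
  refine ⟨Fusion.prodHom (P ⊔ cpsZ hc) χ₁ χ₂,
    ⟨sup_le hP (cpsZ_le hc), χ₁, hχ₁, χ₂, hχ₂, Fusion.prodHom_isProdOf _ _ _⟩, fun x => ?_, fun z => ?_⟩
  · -- agrees with `φ` on `P`
    rw [hprod x (Fusion.fst_mem_map P x) (Fusion.snd_mem_map P x)]
    have h1 : (x : Ω × Ω).1 ∈ P.map (MonoidHom.fst Ω Ω) ⊔ (T₁ ⊓ T₂) :=
      Subgroup.mem_sup_left (Fusion.fst_mem_map P x)
    have h2 : (x : Ω × Ω).2 ∈ P.map (MonoidHom.snd Ω Ω) ⊔ (T₁ ⊓ T₂) :=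
      Subgroup.mem_sup_left (Fusion.snd_mem_map P x)
    refine Prod.ext ?_ ?_
    · show χ₁ ⟨(x : Ω × Ω).1, _⟩ = φ₁ ⟨(x : Ω × Ω).1, _⟩
      exact (hχ₁v _ h1 _).trans (hψ₁P ⟨(x : Ω × Ω).1, Fusion.fst_mem_map P x⟩)
    · show χ₂ ⟨(x : Ω × Ω).2, _⟩ = φ₂ ⟨(x : Ω × Ω).2, _⟩
      exact (hχ₂v _ h2 _).trans (hψ₂P ⟨(x : Ω × Ω).2, Fusion.snd_mem_map P x⟩)
  · -- fixes `Z`
    have hz1 : (z : Ω × Ω).1 ∈ T₁ ⊓ T₂ := z.2.1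
    have hz2 : (z : Ω × Ω).2 ∈ T₁ ⊓ T₂ := by
      rw [z.2.2]; exact Subgroup.inv_mem _ z.2.1
    have h1 : (z : Ω × Ω).1 ∈ P.map (MonoidHom.fst Ω Ω) ⊔ (T₁ ⊓ T₂) := Subgroup.mem_sup_right hz1
    have h2 : (z : Ω × Ω).2 ∈ P.map (MonoidHom.snd Ω Ω) ⊔ (T₁ ⊓ T₂) := Subgroup.mem_sup_right hz2
    refine Prod.ext ?_ ?_
    · show χ₁ ⟨(z : Ω × Ω).1, _⟩ = (z : Ω × Ω).1
      exact (hχ₁v _ h1 _).trans (hψ₁Z ⟨(z : Ω × Ω).1, hz1⟩)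
    · show χ₂ ⟨(z : Ω × Ω).2, _⟩ = (z : Ω × Ω).2
      exact (hχ₂v _ h2 _).trans (hψ₂Z ⟨(z : Ω × Ω).2, hz2⟩)

/-- The first projection of the full preimage of `P` under the multiplication map. -/
theorem cps_maps_pre_fst (hc : CpsComm T₁ T₂) {P : Subgroup Ω} (hP : P ≤ T₁ ⊔ T₂) :
    (preimageAlong (cpsTheta hc) P).map (MonoidHom.fst Ω Ω) = cpsProj T₁ T₂ P := by
  ext x
  rw [mem_cpsProj hc hP]
  constructor
  · rintro ⟨s, hs, rfl⟩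
    obtain ⟨hsT, hθ⟩ := (Fusion.mem_preimageAlong (cpsTheta hc) P s).mp hs
    exact ⟨(Subgroup.mem_prod.mp hsT).1, s.2, (Subgroup.mem_prod.mp hsT).2, hθ⟩
  · rintro ⟨hx, y, hy, hxy⟩
    refine ⟨(x, y), ?_, rfl⟩
    exact (Fusion.mem_preimageAlong (cpsTheta hc) P (x, y)).mpr
      ⟨Subgroup.mem_prod.mpr ⟨hx, hy⟩, hxy⟩

/-- The second projection of the full preimage of `P` under the multiplication map. -/
theorem cps_maps_pre_snd (hc : CpsComm T₁ T₂) {P : Subgroup Ω} (hP : P ≤ T₁ ⊔ T₂) :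
    (preimageAlong (cpsTheta hc) P).map (MonoidHom.snd Ω Ω) = cpsProj T₂ T₁ P := by
  ext y
  rw [mem_cpsProj (cpsComm_symm hc) (by rw [sup_comm]; exact hP)]
  constructor
  · rintro ⟨s, hs, rfl⟩
    obtain ⟨hsT, hθ⟩ := (Fusion.mem_preimageAlong (cpsTheta hc) P s).mp hs
    have h1 := (Subgroup.mem_prod.mp hsT).1
    have h2 := (Subgroup.mem_prod.mp hsT).2
    refine ⟨h2, s.1, h1, ?_⟩
    have : s.2 * s.1 = s.1 * s.2 := (hc _ h1 _ h2).symm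
    show s.2 * s.1 ∈ P
    rw [this]
    exact hθ
  · rintro ⟨hy, x, hx, hyx⟩
    refine ⟨(x, y), ?_, rfl⟩
    refine (Fusion.mem_preimageAlong (cpsTheta hc) P (x, y)).mpr
      ⟨Subgroup.mem_prod.mpr ⟨hx, hy⟩, ?_⟩
    show x * y ∈ P
    rw [hc _ hx _ hy]
    exact hyx

/-- The maps of `D` are exactly the products `φ₁ * φ₂` of a map of `E₁` on the first projection and a map of `E₂` on
the second projection. -/
def CpsMaps {T₁ T₂ : Subgroup Ω} (E₁ : FusionSystem T₁) (E₂ : FusionSystem T₂)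
    (D : FusionSystem (T₁ ⊔ T₂)) : Prop :=
  ∀ (P : Subgroup Ω) (φ : P →* Ω), φ ∈ D.Hom P ↔ P ≤ T₁ ⊔ T₂ ∧
    ∃ φ₁ ∈ E₁.Hom (cpsProj T₁ T₂ P), ∃ φ₂ ∈ E₂.Hom (cpsProj T₂ T₁ P),
      ∀ (x₁ x₂ : Ω) (hx₁ : x₁ ∈ cpsProj T₁ T₂ P) (hx₂ : x₂ ∈ cpsProj T₂ T₁ P) (hx : x₁ * x₂ ∈ P),
        φ ⟨x₁ * x₂, hx⟩ = φ₁ ⟨x₁, hx₁⟩ * φ₂ ⟨x₂, hx₂⟩

/-- The standing hypotheses of the central case (Theorem C). -/
structure Setup (p : ℕ) (F : FusionSystem S) {T₁ T₂ : Subgroup Ω} (E₁ : FusionSystem T₁)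
    (E₂ : FusionSystem T₂) : Prop where
  hS : IsPGroup p S
  sat : F.IsSaturated p
  n₁ : E₁.IsNormalIn F p
  n₂ : E₂.IsNormalIn F p
  comm : CpsComm T₁ T₂
  z₁ : T₁ ⊓ T₂ ≤ E₁.center
  z₂ : T₁ ⊓ T₂ ≤ E₂.center

theorem Setup.symm {p : ℕ} {F : FusionSystem S} {T₁ T₂ : Subgroup Ω} {E₁ : FusionSystem T₁}
    {E₂ : FusionSystem T₂} (h : Setup p F E₁ E₂) : Setup p F E₂ E₁ :=
  ⟨h.hS, h.sat, h.n₂, h.n₁, cpsComm_symm h.comm, by rw [inf_comm]; exact h.z₂,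
    by rw [inf_comm]; exact h.z₁⟩

/-- The maps of the factor system of the product system are the products `φ₁ * φ₂`. -/
theorem cps_maps_iff (E₁ : FusionSystem T₁) (E₂ : FusionSystem T₂) (hc : CpsComm T₁ T₂)
    (D : FusionSystem (T₁ ⊔ T₂))
    (hD : ∀ (P : Subgroup Ω) (φ' : P →* Ω), φ' ∈ D.Hom P ↔ P ≤ T₁ ⊔ T₂ ∧
      ∃ φ ∈ (Fusion.productSystem E₁ E₂).Hom (preimageAlong (cpsTheta hc) P),
        InducedAlong (cpsTheta hc) φ φ') : CpsMaps E₁ E₂ D := by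
  intro P φ'
  rw [hD P φ']
  constructor
  · rintro ⟨hP, φ, ⟨hPt, φ₁, hφ₁, φ₂, hφ₂, hprod⟩, hPt', hφT, hP', hind⟩
    refine ⟨hP, ?_⟩
    obtain ⟨χ₁, hχ₁, hχ₁v⟩ := Fusion.exists_hom_of_eq E₁ (cps_maps_pre_fst hc hP) hφ₁
    obtain ⟨χ₂, hχ₂, hχ₂v⟩ := Fusion.exists_hom_of_eq E₂ (cps_maps_pre_snd hc hP) hφ₂
    refine ⟨χ₁, hχ₁, χ₂, hχ₂, fun x₁ x₂ hx₁ hx₂ hx => ?_⟩
    have h1T : x₁ ∈ T₁ := (inf_le_left : cpsProj T₁ T₂ P ≤ T₁) hx₁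
    have h2T : x₂ ∈ T₂ := (inf_le_left : cpsProj T₂ T₁ P ≤ T₂) hx₂
    have hsT : ((x₁, x₂) : Ω × Ω) ∈ T₁.prod T₂ := Subgroup.mem_prod.mpr ⟨h1T, h2T⟩
    have hs : ((x₁, x₂) : Ω × Ω) ∈ preimageAlong (cpsTheta hc) P :=
      (Fusion.mem_preimageAlong (cpsTheta hc) P (x₁, x₂)).mpr ⟨hsT, hx⟩
    have h3 := hind ⟨(x₁, x₂), hs⟩
    have h4 := hprod ⟨(x₁, x₂), hs⟩ (Fusion.fst_mem_map _ _) (Fusion.snd_mem_map _ _)
    have h5 : φ' ⟨x₁ * x₂, hx⟩ =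
        (cpsTheta hc) ⟨φ ⟨(x₁, x₂), hs⟩, hφT ⟨(x₁, x₂), hs⟩⟩ := h3
    rw [h5, cpsTheta_apply]
    show (φ ⟨(x₁, x₂), hs⟩).1 * (φ ⟨(x₁, x₂), hs⟩).2 = _
    rw [h4]
    show φ₁ ⟨x₁, _⟩ * φ₂ ⟨x₂, _⟩ = χ₁ ⟨x₁, hx₁⟩ * χ₂ ⟨x₂, hx₂⟩
    rw [hχ₁v x₁ (Fusion.fst_mem_map _ ⟨(x₁, x₂), hs⟩) hx₁,
      hχ₂v x₂ (Fusion.snd_mem_map _ ⟨(x₁, x₂), hs⟩) hx₂]
  · rintro ⟨hP, χ₁, hχ₁, χ₂, hχ₂, hform⟩
    refine ⟨hP, ?_⟩
    obtain ⟨φ₁, hφ₁, hφ₁v⟩ := Fusion.exists_hom_of_eq E₁ (cps_maps_pre_fst hc hP).symm hχ₁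
    obtain ⟨φ₂, hφ₂, hφ₂v⟩ := Fusion.exists_hom_of_eq E₂ (cps_maps_pre_snd hc hP).symm hχ₂
    have hPt : preimageAlong (cpsTheta hc) P ≤ T₁.prod T₂ := Fusion.preimageAlong_le _ _
    have hmem : Fusion.prodHom (preimageAlong (cpsTheta hc) P) φ₁ φ₂ ∈
        (Fusion.productSystem E₁ E₂).Hom (preimageAlong (cpsTheta hc) P) :=
      ⟨hPt, φ₁, hφ₁, φ₂, hφ₂, Fusion.prodHom_isProdOf _ _ _⟩
    refine ⟨_, hmem, hPt, ((Fusion.productSystem E₁ E₂).le_of_mem hmem).2, ?_, ?_⟩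
    · intro x
      exact ((Fusion.mem_preimageAlong (cpsTheta hc) P x).mp x.2).2
    · intro x
      have hx1 : (x : Ω × Ω).1 ∈ cpsProj T₁ T₂ P := by
        rw [← cps_maps_pre_fst hc hP]; exact Fusion.fst_mem_map _ x
      have hx2 : (x : Ω × Ω).2 ∈ cpsProj T₂ T₁ P := by
        rw [← cps_maps_pre_snd hc hP]; exact Fusion.snd_mem_map _ x
      have hxP : (x : Ω × Ω).1 * (x : Ω × Ω).2 ∈ P :=
        ((Fusion.mem_preimageAlong (cpsTheta hc) P x).mp x.2).2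
      have h1 := hform _ _ hx1 hx2 hxP
      show φ' ⟨(x : Ω × Ω).1 * (x : Ω × Ω).2, _⟩ =
        φ₁ ⟨(x : Ω × Ω).1, _⟩ * φ₂ ⟨(x : Ω × Ω).2, _⟩
      rw [h1, hφ₁v _ hx1 (Fusion.fst_mem_map _ x), hφ₂v _ hx2 (Fusion.snd_mem_map _ x)]

/-- The central product system exists, is saturated and has the expected maps. -/
theorem cps_exists [Finite S] (p : ℕ) [Fact p.Prime] (hS : IsPGroup p S) {T₁ T₂ : Subgroup Ω}
    (hT₁ : T₁ ≤ S) (hT₂ : T₂ ≤ S) (E₁ : FusionSystem T₁) (E₂ : FusionSystem T₂)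
    (hE₁ : E₁.IsSaturated p) (hE₂ : E₂.IsSaturated p) (hc : CpsComm T₁ T₂)
    (hz₁ : T₁ ⊓ T₂ ≤ E₁.center) (hz₂ : T₁ ⊓ T₂ ≤ E₂.center) :
    ∃ D : FusionSystem (T₁ ⊔ T₂),
      Cfsg.FusionSystem.IsCentralProductOf E₁ E₂ D ∧ D.IsSaturated p ∧ CpsMaps E₁ E₂ D := by
  haveI : Finite T₁ := Fusion.finite_of_le hT₁
  haveI : Finite T₂ := Fusion.finite_of_le hT₂
  haveI : Finite ↥(T₁.prod T₂) := Finite.of_equiv _ (Subgroup.prodEquiv T₁ T₂).symm.toEquiv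
  have hp₁ : IsPGroup p T₁ := hS.to_le hT₁
  have hp₂ : IsPGroup p T₂ := hS.to_le hT₂
  have hSprod : IsPGroup p ↥(T₁.prod T₂) := by
    obtain ⟨a, ha⟩ := IsPGroup.iff_card.mp hp₁
    obtain ⟨b, hb⟩ := IsPGroup.iff_card.mp hp₂
    apply IsPGroup.of_card (n := a + b)
    rw [ProdSat.card_prod_subgroup, ha, hb, pow_add]
  have hprod := Fusion.productSystem_isProductSystem E₁ E₂
  have hD₀sat : (Fusion.productSystem E₁ E₂).IsSaturated p :=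
    ProdSat.main p hp₁ hp₂ E₁ E₂ hE₁ hE₂ _ hprod
  have hZc := cps_maps_Z_central E₁ E₂ hc hz₁ hz₂
  have hZsc : (Fusion.productSystem E₁ E₂).StronglyClosed (cpsZ hc) :=
    Fusion.stronglyClosed_of_isCentral p hSprod _ hD₀sat hZc
  have hfact := Fusion.factorSystem_isFactorSystem (Fusion.productSystem E₁ E₂) (cpsTheta hc) hZsc
    (cps_maps_ker hc) (cps_maps_range hc)
  refine ⟨Fusion.factorSystem (Fusion.productSystem E₁ E₂) (cpsTheta hc) hZsc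
    (cps_maps_ker hc) (cps_maps_range hc), ?_, ?_, ?_⟩
  · refine ⟨_, hprod, cpsZ hc, cpsTheta hc, le_sSup hZc, ?_, ?_, ?_, ?_, hfact⟩
    · rw [eq_bot_iff]
      rintro x ⟨⟨hx1, hx2⟩, hx3⟩
      have h2 : x.2 = 1 := (Subgroup.mem_prod.mp hx3).2
      have h1 : x.1 = 1 := by
        have := hx2
        rw [h2] at this
        exact inv_eq_one.mp this.symm
      exact Subgroup.mem_bot.mpr (Prod.ext h1 h2)
    · rw [eq_bot_iff]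
      rintro x ⟨⟨hx1, hx2⟩, hx3⟩
      have h1 : x.1 = 1 := (Subgroup.mem_prod.mp hx3).1
      have h2 : x.2 = 1 := by rw [hx2, h1, inv_one]
      exact Subgroup.mem_bot.mpr (Prod.ext h1 h2)
    · intro x hx
      rw [cpsTheta_apply]
      simp
    · intro y hy
      rw [cpsTheta_apply]
      simp
  · exact Fusion.isSaturated_image p hSprod _ hD₀sat _ (cpsTheta hc)
      (Fusion.isSurjectiveMorphism_of_isFactorSystem p hSprod _ hD₀sat (cpsZ hc) hZsc (cpsTheta hc) _ hfact)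
  · exact cps_maps_iff E₁ E₂ hc _ (fun _ _ => Iff.rfl)

end Cfsg.Agent.CPS
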