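import Mathlib
import Cfsg.Prelude.Def_FusionComponents
import Cfsg.Agent.CSE.Largest
import Cfsg.Agent.CPS.CentA
import Cfsg.Agent.CPS.Maps

set_option autoImplicit false

/-!
# S5138 (central products), piece P4: `T₂ ≤ C_S(E₁)` and `D ⊆ F`

* `cps_cent` (C4): under the standing hypotheses every map of `E₁` lies in `C_F(T₂)`: it extends to a map of `F`
  on `P ⊔ T₂` which is the identity on `T₂`.  (`T₂ ≤ cseC p F E₁` by `cps_cent_le_cseC`, and `cseC` is a member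
  of `cseY` by `cseC_mem`; restrict the extension from `P ⊔ cseC` to `P ⊔ T₂`.)
* `cps_le` (C5): the central product system `D` (described by `CpsMaps`) is a subsystem of `F`: a map
  `φ = (φ₁ * φ₂)|P` is the restriction to `P` of `ψ₂ ∘ ψ₁`, `ψ₁` the extension of `φ₁` to `P̄₁ ⊔ T₂` fixing `T₂`,
  `ψ₂` the extension of `φ₂` to `P̄₂ ⊔ T₁` fixing `T₁`:  `x₁ x₂ ↦ φ₁(x₁) x₂ ↦ φ₁(x₁) φ₂(x₂)`.
-/

namespace Cfsg.Agent.CPS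

open Cfsg Cfsg.FusionSystem Cfsg.Agent.Lead

variable {Ω : Type*} [Group Ω] {S : Subgroup Ω}

/-- evaluation of an extension `ψ` of `φ` (on `A`) to `A ⊔ B` that fixes `B`, on a product `a b`. -/
theorem cps_cent_eval_left {A B : Subgroup Ω} (ψ : ↥(A ⊔ B) →* Ω) (φ : A →* Ω)
    (hA : ∀ x : A, ψ (Subgroup.inclusion le_sup_left x) = φ x)
    (hB : ∀ x : B, ψ (Subgroup.inclusion le_sup_right x) = x)
    (a b : Ω) (ha : a ∈ A) (hb : b ∈ B) (hab : a * b ∈ A ⊔ B) :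
    ψ ⟨a * b, hab⟩ = φ ⟨a, ha⟩ * b := by
  have h1 : (⟨a * b, hab⟩ : ↥(A ⊔ B)) =
      Subgroup.inclusion le_sup_left (⟨a, ha⟩ : A) *
        Subgroup.inclusion le_sup_right (⟨b, hb⟩ : B) := Subtype.ext rfl
  rw [h1, map_mul, hA, hB]

/-- evaluation of an extension `ψ` of `φ` (on `A`) to `A ⊔ B` that fixes `B`, on a product `b a`. -/
theorem cps_cent_eval_right {A B : Subgroup Ω} (ψ : ↥(A ⊔ B) →* Ω) (φ : A →* Ω)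
    (hA : ∀ x : A, ψ (Subgroup.inclusion le_sup_left x) = φ x)
    (hB : ∀ x : B, ψ (Subgroup.inclusion le_sup_right x) = x)
    (a b : Ω) (ha : a ∈ A) (hb : b ∈ B) (hba : b * a ∈ A ⊔ B) :
    ψ ⟨b * a, hba⟩ = b * φ ⟨a, ha⟩ := by
  have h1 : (⟨b * a, hba⟩ : ↥(A ⊔ B)) =
      Subgroup.inclusion le_sup_right (⟨b, hb⟩ : B) *
        Subgroup.inclusion le_sup_left (⟨a, ha⟩ : A) := Subtype.ext rfl
  rw [h1, map_mul, hA, hB]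

/-- C4: `T₂ ≤ C_S(E₁)`: every map of `E₁` extends to a map of `F` on `P ⊔ T₂` fixing `T₂`. -/
theorem cps_cent [Finite S] (p : ℕ) [Fact p.Prime] {F : FusionSystem S} {T₁ T₂ : Subgroup Ω}
    {E₁ : FusionSystem T₁} {E₂ : FusionSystem T₂} (h : Setup p F E₁ E₂) (P : Subgroup Ω) :
    E₁.Hom P ⊆ F.centralizerHom T₂ P := by
  have hcse : CSE.Setup p F E₁ := ⟨h.hS, h.sat, h.n₁⟩
  have hsc₂ : F.StronglyClosed T₂ := h.n₂.1.2.2.2.1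
  have hT₂S : T₂ ≤ S := hsc₂.1
  have hcomm : T₂ ≤ centralizerIn S T₁ := by
    intro y hy
    refine Subgroup.mem_inf.mpr ⟨hT₂S hy, ?_⟩
    rw [Subgroup.mem_centralizer_iff]
    intro x hx
    exact h.comm x hx y hy
  have hle : T₂ ≤ CSE.cseC p F E₁ := cps_cent_le_cseC p hcse hsc₂ hcomm h.z₁
  have hmem := CSE.cseC_mem p hcse
  have hCC : centralizerIn S (CSE.cseC p F E₁) ≤ centralizerIn S T₂ := by
    intro g hg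
    exact Subgroup.mem_inf.mpr ⟨(Subgroup.mem_inf.mp hg).1,
      Subgroup.centralizer_le hle (Subgroup.mem_inf.mp hg).2⟩
  intro φ hφ
  obtain ⟨hφF, hPC, hφC, ψ, hψ, hψP, hψX⟩ := hmem.2 P hφ
  have hle' : P ⊔ T₂ ≤ P ⊔ CSE.cseC p F E₁ := sup_le_sup_left hle P
  refine ⟨hφF, hPC.trans hCC, fun x => hCC (hφC x), ψ.comp (Subgroup.inclusion hle'),
    Fusion.restrict_mem F hψ hle', fun x => ?_, fun x => ?_⟩
  · exact hψP x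
  · exact hψX ⟨x, hle x.2⟩

/-- C5: `D ⊆ F`. -/
theorem cps_le [Finite S] (p : ℕ) [Fact p.Prime] {F : FusionSystem S} {T₁ T₂ : Subgroup Ω}
    {E₁ : FusionSystem T₁} {E₂ : FusionSystem T₂} (h : Setup p F E₁ E₂)
    (D : FusionSystem (T₁ ⊔ T₂)) (hD : CpsMaps E₁ E₂ D) : D.IsSubsystemOf F := by
  intro P φ hφ
  obtain ⟨hPT, φ₁, hφ₁, φ₂, hφ₂, hform⟩ := (hD P φ).mp hφ
  obtain ⟨-, -, -, ψ₁, hψ₁, hψ₁A, hψ₁T⟩ := cps_cent p h (cpsProj T₁ T₂ P) hφ₁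
  obtain ⟨-, -, -, ψ₂, hψ₂, hψ₂A, hψ₂T⟩ := cps_cent p h.symm (cpsProj T₂ T₁ P) hφ₂
  have hc₂ : CpsComm T₂ T₁ := cpsComm_symm h.comm
  have hPT' : P ≤ T₂ ⊔ T₁ := by rw [sup_comm]; exact hPT
  -- `P ≤ P̄₁ ⊔ T₂`
  have hP1 : P ≤ cpsProj T₁ T₂ P ⊔ T₂ := by
    intro x hx
    obtain ⟨x₁, hx₁, x₂, hx₂, rfl⟩ := exists_mul_of_mem h.comm hPT hx
    exact Subgroup.mul_mem _ (Subgroup.mem_sup_left hx₁)
      (Subgroup.mem_sup_right (inf_le_left (a := T₂) hx₂))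
  have hψ₁P := Fusion.restrict_mem F hψ₁ hP1
  -- `ψ₁(P) ≤ P̄₂ ⊔ T₁`
  have hval : ∀ (x : P) (x₁ x₂ : Ω) (hx₁ : x₁ ∈ cpsProj T₁ T₂ P) (hx₂ : x₂ ∈ cpsProj T₂ T₁ P),
      (x : Ω) = x₁ * x₂ → (ψ₁.comp (Subgroup.inclusion hP1)) x = φ₁ ⟨x₁, hx₁⟩ * x₂ := by
    intro x x₁ x₂ hx₁ hx₂ hx
    have hmem : x₁ * x₂ ∈ cpsProj T₁ T₂ P ⊔ T₂ := hx ▸ hP1 x.2
    have h1 : Subgroup.inclusion hP1 x = ⟨x₁ * x₂, hmem⟩ := Subtype.ext hx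
    rw [MonoidHom.comp_apply, h1]
    exact cps_cent_eval_left ψ₁ φ₁ hψ₁A hψ₁T x₁ x₂ hx₁ (inf_le_left (a := T₂) hx₂) hmem
  have hφ₁T : ∀ y : ↥(cpsProj T₁ T₂ P), φ₁ y ∈ T₁ := (E₁.le_of_mem hφ₁).2
  have hcod : ∀ x : P, (ψ₁.comp (Subgroup.inclusion hP1)) x ∈ cpsProj T₂ T₁ P ⊔ T₁ := by
    intro x
    obtain ⟨x₁, hx₁, x₂, hx₂, hx⟩ := exists_mul_of_mem h.comm hPT x.2
    rw [hval x x₁ x₂ hx₁ hx₂ hx]
    exact Subgroup.mul_mem _ (Subgroup.mem_sup_right (hφ₁T _)) (Subgroup.mem_sup_left hx₂)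
  have hcomp := F.comp_mem hψ₁P hψ₂ hcod
  have heq : ψ₂.comp ((ψ₁.comp (Subgroup.inclusion hP1)).codRestrict _ hcod) = φ := by
    ext x
    obtain ⟨x₁, hx₁, x₂, hx₂, hx⟩ := exists_mul_of_mem h.comm hPT x.2
    have hmem : φ₁ ⟨x₁, hx₁⟩ * x₂ ∈ cpsProj T₂ T₁ P ⊔ T₁ :=
      Subgroup.mul_mem _ (Subgroup.mem_sup_right (hφ₁T _)) (Subgroup.mem_sup_left hx₂)
    have h1 : (ψ₁.comp (Subgroup.inclusion hP1)).codRestrict _ hcod x =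
        ⟨φ₁ ⟨x₁, hx₁⟩ * x₂, hmem⟩ := Subtype.ext (hval x x₁ x₂ hx₁ hx₂ hx)
    rw [MonoidHom.comp_apply, h1,
      cps_cent_eval_right ψ₂ φ₂ hψ₂A hψ₂T x₂ (φ₁ ⟨x₁, hx₁⟩) hx₂ (hφ₁T _) hmem]
    have hxP : x₁ * x₂ ∈ P := hx ▸ x.2
    have h2 : x = ⟨x₁ * x₂, hxP⟩ := Subtype.ext hx
    rw [h2]
    exact (hform x₁ x₂ hx₁ hx₂ hxP).symm
  rw [← heq]
  exact hcomp

end Cfsg.Agent.CPS
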