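import Mathlib
import Cfsg.Prelude.Def_FusionSystem
import Cfsg.Agent.Lead.FusionClosedProd
import Cfsg.Agent.Lead.FusionStrongInvB
import Cfsg.Agent.Lead.FusionSat3
import Cfsg.Agent.CPS.Hull

set_option autoImplicit false

/-!
# S5138 (central products), piece P2, part A: `CpsExt`, `cps_map_proj` (EXT itself is in CPS/Ext.lean)

`F` saturated over the finite `p`-group `S`, `T₁`, `T₂` strongly closed and commuting elementwise.  Every map of `F`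
on `Q ≤ T₁ T₂` extends to a map of `F` on the hull of `Q`, whose image is the hull of the image (`cps_ext`).
Maps of `F` on hull-closed subgroups carry projections to projections (`cps_map_proj`).
-/

namespace Cfsg.Agent.CPS

open Cfsg Cfsg.FusionSystem Cfsg.Agent.Lead

variable {Ω : Type*} [Group Ω] {S : Subgroup Ω}

/-- `ψ` (a map of `F` on `Q`) extends to a map of `F` on the hull of `Q` whose image is the hull of the image. -/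
def CpsExt (F : FusionSystem S) (T₁ T₂ Q : Subgroup Ω) (ψ : Q →* Ω) : Prop :=
  ∃ ψ' ∈ F.Hom (cpsHull T₁ T₂ Q),
    (∀ (x : Ω) (hx : x ∈ Q) (hx' : x ∈ cpsHull T₁ T₂ Q), ψ' ⟨x, hx'⟩ = ψ ⟨x, hx⟩) ∧
    ψ'.range = cpsHull T₁ T₂ ψ.range

/-- `ψ` extends to a map of `F` on `H`. -/
def CpsExtTo (F : FusionSystem S) (Q H : Subgroup Ω) (ψ : Q →* Ω) : Prop :=
  ∃ ψ' ∈ F.Hom H, ∀ (x : Ω) (hx : x ∈ Q) (hx' : x ∈ H), ψ' ⟨x, hx'⟩ = ψ ⟨x, hx⟩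

theorem cps_ext_hull_comm (T₁ T₂ Q : Subgroup Ω) : cpsHull T₂ T₁ Q = cpsHull T₁ T₂ Q :=
  sup_comm _ _

theorem cps_ext_inf_stronglyClosed (F : FusionSystem S) {T₁ T₂ : Subgroup Ω}
    (h₁ : F.StronglyClosed T₁) (h₂ : F.StronglyClosed T₂) : F.StronglyClosed (T₁ ⊓ T₂) :=
  ⟨inf_le_left.trans h₁.1, fun R hR φ hφ x =>
    ⟨h₁.2 R (hR.trans inf_le_left) φ hφ x, h₂.2 R (hR.trans inf_le_right) φ hφ x⟩⟩

/-- an `F`-map reflects membership in a strongly closed subgroup -/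
theorem cps_ext_mem_of_map_mem (F : FusionSystem S) {T M : Subgroup Ω} (hT : F.StronglyClosed T)
    {θ : M →* Ω} (hθ : θ ∈ F.Hom M) (y : M) (hy : θ y ∈ T) : (y : Ω) ∈ T := by
  obtain ⟨χ, hχ, hinv, -⟩ := Fusion.exists_inv F hθ rfl
  have h1 := Fusion.map_mem_of_stronglyClosed F hT hχ ⟨θ y, ⟨y, rfl⟩⟩ hy
  rwa [hinv y ⟨y, rfl⟩] at h1

/-- A map of `F` defined on a hull-closed `H` carries projections to projections: for `P ≤ H`,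
`proj₁(ψ'(P)) = ψ'(proj₁ P)` (no induction: `T_i` strongly closed, `ψ'(Z₀) = Z₀`). -/
theorem cps_map_proj [Finite S] (F : FusionSystem S) {T₁ T₂ : Subgroup Ω} (h₁ : F.StronglyClosed T₁)
    (h₂ : F.StronglyClosed T₂) (hc : CpsComm T₁ T₂) {H P : Subgroup Ω} (hH : H ≤ T₁ ⊔ T₂)
    (hHc : cpsHull T₁ T₂ H = H) (hPH : P ≤ H) {ψ' : H →* Ω} (hψ' : ψ' ∈ F.Hom H) :
    cpsProj T₁ T₂ ((P.subgroupOf H).map ψ') = ((cpsProj T₁ T₂ P).subgroupOf H).map ψ' := by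
  have hP : P ≤ T₁ ⊔ T₂ := hPH.trans hH
  have hp1 : cpsProj T₁ T₂ P ≤ H :=
    calc cpsProj T₁ T₂ P ≤ cpsProj T₁ T₂ H := cpsProj_mono hPH
      _ ≤ cpsHull T₁ T₂ H := le_sup_left
      _ = H := hHc
  have hp2 : cpsProj T₂ T₁ P ≤ H :=
    calc cpsProj T₂ T₁ P ≤ cpsProj T₂ T₁ H := cpsProj_mono hPH
      _ ≤ cpsHull T₁ T₂ H := le_sup_right
      _ = H := hHc
  -- the image of `P` lies in `T₁ T₂`
  have himg : (P.subgroupOf H).map ψ' ≤ T₁ ⊔ T₂ := by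
    rintro _ ⟨x, hx, rfl⟩
    have hx' : (x : Ω) ∈ P := Subgroup.mem_subgroupOf.mp hx
    obtain ⟨x₁, hx₁, x₂, hx₂, e⟩ := exists_mul_of_mem hc hP hx'
    have hxe : x = ⟨x₁, hp1 hx₁⟩ * ⟨x₂, hp2 hx₂⟩ := Subtype.ext e
    rw [hxe, map_mul]
    exact Subgroup.mul_mem _
      (Subgroup.mem_sup_left (Fusion.map_mem_of_stronglyClosed F h₁ hψ' _ hx₁.1))
      (Subgroup.mem_sup_right (Fusion.map_mem_of_stronglyClosed F h₂ hψ' _ hx₂.1))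
  have hZH : T₁ ⊓ T₂ ≤ H := (inf_le_cpsProj T₁ T₂ P).trans hp1
  apply le_antisymm
  · intro z hz
    obtain ⟨hz1, y, hy, hzy⟩ := (mem_cpsProj hc himg).mp hz
    obtain ⟨q, hq, hqe⟩ := hzy
    have hq' : (q : Ω) ∈ P := Subgroup.mem_subgroupOf.mp hq
    obtain ⟨a, ha, b, hb, e⟩ := exists_mul_of_mem hc hP hq'
    have hqab : q = ⟨a, hp1 ha⟩ * ⟨b, hp2 hb⟩ := Subtype.ext e
    have hψa : ψ' ⟨a, hp1 ha⟩ ∈ T₁ := Fusion.map_mem_of_stronglyClosed F h₁ hψ' _ ha.1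
    have hψb : ψ' ⟨b, hp2 hb⟩ ∈ T₂ := Fusion.map_mem_of_stronglyClosed F h₂ hψ' _ hb.1
    have h3 : ψ' ⟨a, hp1 ha⟩ * ψ' ⟨b, hp2 hb⟩ = z * y := by rw [← map_mul, ← hqab, hqe]
    have hw : (ψ' ⟨a, hp1 ha⟩)⁻¹ * z ∈ T₁ ⊓ T₂ := by
      refine ⟨T₁.mul_mem (T₁.inv_mem hψa) hz1, ?_⟩
      have h4 : (ψ' ⟨a, hp1 ha⟩)⁻¹ * z = ψ' ⟨b, hp2 hb⟩ * y⁻¹ := by
        calc (ψ' ⟨a, hp1 ha⟩)⁻¹ * z = (ψ' ⟨a, hp1 ha⟩)⁻¹ * (z * y) * y⁻¹ := by group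
          _ = (ψ' ⟨a, hp1 ha⟩)⁻¹ * (ψ' ⟨a, hp1 ha⟩ * ψ' ⟨b, hp2 hb⟩) * y⁻¹ := by rw [h3]
          _ = ψ' ⟨b, hp2 hb⟩ * y⁻¹ := by group
      rw [h4]; exact T₂.mul_mem hψb (T₂.inv_mem hy)
    obtain ⟨z₀, hz₀, hz₀e⟩ := Fusion.exists_preimage_of_stronglyClosed F
      (cps_ext_inf_stronglyClosed F h₁ h₂) hZH hψ' _ hw
    refine ⟨⟨a, hp1 ha⟩ * ⟨z₀, hZH hz₀⟩, ?_, ?_⟩
    · show _ ∈ (cpsProj T₁ T₂ P).subgroupOf H
      rw [Subgroup.mem_subgroupOf]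
      exact (cpsProj T₁ T₂ P).mul_mem ha (inf_le_cpsProj T₁ T₂ P hz₀)
    · rw [map_mul, hz₀e]; group
  · rintro _ ⟨y, hy, rfl⟩
    have hy' : (y : Ω) ∈ cpsProj T₁ T₂ P := Subgroup.mem_subgroupOf.mp hy
    obtain ⟨hy1, b, hb, hyb⟩ := (mem_cpsProj hc hP).mp hy'
    have hbH : b ∈ H := by
      have h5 : b = (y : Ω)⁻¹ * (y * b) := by group
      rw [h5]; exact H.mul_mem (H.inv_mem y.2) (hPH hyb)
    refine ⟨Fusion.map_mem_of_stronglyClosed F h₁ hψ' y hy1, ?_⟩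
    have h6 : ψ' y = ψ' (y * ⟨b, hbH⟩) * (ψ' ⟨b, hbH⟩)⁻¹ := by rw [map_mul]; group
    rw [h6]
    refine Subgroup.mul_mem _ (Subgroup.mem_sup_left ⟨y * ⟨b, hbH⟩, ?_, rfl⟩)
      (Subgroup.mem_sup_right (T₂.inv_mem (Fusion.map_mem_of_stronglyClosed F h₂ hψ' ⟨b, hbH⟩ hb)))
    show _ ∈ P.subgroupOf H
    rw [Subgroup.mem_subgroupOf]; exact hyb

/-- the same for the hull -/
theorem cps_ext_map_hull [Finite S] (F : FusionSystem S) {T₁ T₂ : Subgroup Ω}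
    (h₁ : F.StronglyClosed T₁) (h₂ : F.StronglyClosed T₂) (hc : CpsComm T₁ T₂) {H P : Subgroup Ω}
    (hH : H ≤ T₁ ⊔ T₂) (hHc : cpsHull T₁ T₂ H = H) (hPH : P ≤ H) {ψ' : H →* Ω}
    (hψ' : ψ' ∈ F.Hom H) :
    cpsHull T₁ T₂ ((P.subgroupOf H).map ψ') = ((cpsHull T₁ T₂ P).subgroupOf H).map ψ' := by
  have hH' : H ≤ T₂ ⊔ T₁ := by rw [sup_comm]; exact hH
  have hHc' : cpsHull T₂ T₁ H = H := by rw [cps_ext_hull_comm]; exact hHc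
  have hp1 : cpsProj T₁ T₂ P ≤ H :=
    calc cpsProj T₁ T₂ P ≤ cpsProj T₁ T₂ H := cpsProj_mono hPH
      _ ≤ cpsHull T₁ T₂ H := le_sup_left
      _ = H := hHc
  have hp2 : cpsProj T₂ T₁ P ≤ H :=
    calc cpsProj T₂ T₁ P ≤ cpsProj T₂ T₁ H := cpsProj_mono hPH
      _ ≤ cpsHull T₁ T₂ H := le_sup_right
      _ = H := hHc
  unfold cpsHull
  rw [cps_map_proj F h₁ h₂ hc hH hHc hPH hψ', cps_map_proj F h₂ h₁ (cpsComm_symm hc) hH' hHc' hPH hψ',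
    ← Subgroup.map_sup, Subgroup.subgroupOf_sup hp1 hp2]

/-- an extension to the hull automatically has the hull of the image as its image -/
theorem cps_ext_of_extTo [Finite S] (F : FusionSystem S) {T₁ T₂ : Subgroup Ω}
    (h₁ : F.StronglyClosed T₁) (h₂ : F.StronglyClosed T₂) (hc : CpsComm T₁ T₂) {Q : Subgroup Ω}
    (hQ : Q ≤ T₁ ⊔ T₂) {ψ : Q →* Ω} (h : CpsExtTo F Q (cpsHull T₁ T₂ Q) ψ) :
    CpsExt F T₁ T₂ Q ψ := by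
  obtain ⟨ψ', hψ', hext⟩ := h
  refine ⟨ψ', hψ', hext, ?_⟩
  have hQH : Q ≤ cpsHull T₁ T₂ Q := le_cpsHull hc hQ
  have hr : ψ.range = (Q.subgroupOf (cpsHull T₁ T₂ Q)).map ψ' := by
    ext y
    constructor
    · rintro ⟨x, rfl⟩
      exact ⟨⟨x, hQH x.2⟩, Subgroup.mem_subgroupOf.mpr x.2, hext x x.2 _⟩
    · rintro ⟨x, hx, rfl⟩
      have hx' : (x : Ω) ∈ Q := Subgroup.mem_subgroupOf.mp hx
      exact ⟨⟨x, hx'⟩, (hext x hx' x.2).symm⟩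
  rw [hr, cps_ext_map_hull F h₁ h₂ hc (cpsHull_le _ _ _) (cpsHull_idem hc hQ) hQH hψ',
    Subgroup.subgroupOf_self, ← MonoidHom.range_eq_map]

end Cfsg.Agent.CPS
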