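import Mathlib
import Cfsg.Prelude.Def_FusionSystem
import Cfsg.Agent.Lead.FusionClosedProd
import Cfsg.Agent.Lead.FusionStrongInvB
import Cfsg.Agent.Lead.FusionSat3
import Cfsg.Agent.CPS.Hull
import Cfsg.Agent.CPS.ExtA

set_option autoImplicit false

/-!
# S5138 (central products), piece P2: the extension lemma EXT (C7)

`F` saturated over the finite `p`-group `S`, `T₁`, `T₂` strongly closed and commuting elementwise.  Every map of `F`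
on `Q ≤ T₁ T₂` extends to a map of `F` on the hull of `Q`, whose image is the hull of the image (`cps_ext`).
Downward induction on `|Q|`; the Sylow argument runs inside the normal subgroup `cpsLam` of `Aut_F(R)`.
-/

namespace Cfsg.Agent.CPS

open Cfsg Cfsg.FusionSystem Cfsg.Agent.Lead

variable {Ω : Type*} [Group Ω] {S : Subgroup Ω}

/-- `Λ₁(R)`: the automorphisms in `Aut_F(R)` fixing `R ∩ T₂` elementwise and moving every element by an element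
of `T₁`. -/
def cpsLam (F : FusionSystem S) (T₁ T₂ R : Subgroup Ω) : Subgroup (MulAut R) where
  carrier := {l | l ∈ F.autGroup R ∧ (∀ u : R, (u : Ω) ∈ T₂ → l u = u) ∧
    ∀ u : R, ((l u : R) : Ω) * (u : Ω)⁻¹ ∈ T₁}
  one_mem' := by
    refine ⟨Subgroup.one_mem _, fun u _ => rfl, fun u => ?_⟩
    rw [MulAut.one_apply, mul_inv_cancel]
    exact T₁.one_mem
  mul_mem' := by
    rintro a b ⟨ha, ha2, ha1⟩ ⟨hb, hb2, hb1⟩
    refine ⟨Subgroup.mul_mem _ ha hb, fun u hu => ?_, fun u => ?_⟩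
    · rw [MulAut.mul_apply, hb2 u hu, ha2 u hu]
    · have h := T₁.mul_mem (ha1 (b u)) (hb1 u)
      rw [MulAut.mul_apply]
      have e : ((a (b u) : R) : Ω) * (u : Ω)⁻¹ =
          ((a (b u) : R) : Ω) * ((b u : R) : Ω)⁻¹ * (((b u : R) : Ω) * (u : Ω)⁻¹) := by group
      rw [e]; exact h
  inv_mem' := by
    rintro a ⟨ha, ha2, ha1⟩
    refine ⟨Subgroup.inv_mem _ ha, fun u hu => ?_, fun u => ?_⟩
    · have h := ha2 u hu
      calc a⁻¹ u = a⁻¹ (a u) := by rw [h]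
        _ = u := MulAut.inv_apply_self _ _ _
    · have h := T₁.inv_mem (ha1 (a⁻¹ u))
      rw [MulAut.apply_inv_self] at h
      have e : ((a⁻¹ u : R) : Ω) * (u : Ω)⁻¹ = ((u : Ω) * ((a⁻¹ u : R) : Ω)⁻¹)⁻¹ := by group
      rw [e]; exact h

theorem cps_ext_aut_mem (F : FusionSystem S) {T R : Subgroup Ω} (hT : F.StronglyClosed T)
    (hR : R ≤ S) {a : MulAut R} (ha : a ∈ F.autGroup R) (u : R) (hu : (u : Ω) ∈ T) :
    ((a u : R) : Ω) ∈ T :=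
  Fusion.map_mem_of_stronglyClosed F hT ((Fusion.mem_autGroup_iff F hR a).mp ha) u hu

/-- `Λ₁(R)` is normalized by `Aut_F(R)`. -/
theorem cps_ext_lam_conj (F : FusionSystem S) {T₁ T₂ R : Subgroup Ω} (h₁ : F.StronglyClosed T₁)
    (h₂ : F.StronglyClosed T₂) (hR : R ≤ S) {a l : MulAut R} (ha : a ∈ F.autGroup R)
    (hl : l ∈ cpsLam F T₁ T₂ R) : a * l * a⁻¹ ∈ cpsLam F T₁ T₂ R := by
  obtain ⟨hlF, hl2, hl1⟩ := hl
  have ha' : a⁻¹ ∈ F.autGroup R := Subgroup.inv_mem _ ha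
  refine ⟨Subgroup.mul_mem _ (Subgroup.mul_mem _ ha hlF) ha', fun u hu => ?_, fun u => ?_⟩
  · have hv : ((a⁻¹ u : R) : Ω) ∈ T₂ := cps_ext_aut_mem F h₂ hR ha' u hu
    rw [MulAut.mul_apply, MulAut.mul_apply, hl2 _ hv, MulAut.apply_inv_self]
  · rw [MulAut.mul_apply, MulAut.mul_apply]
    set v := a⁻¹ u with hv
    have ht : ((l v * v⁻¹ : R) : Ω) ∈ T₁ := by
      rw [Subgroup.coe_mul, Subgroup.coe_inv]; exact hl1 v
    have h3 := cps_ext_aut_mem F h₁ hR ha (l v * v⁻¹) ht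
    rw [map_mul, map_inv, hv, MulAut.apply_inv_self, Subgroup.coe_mul, Subgroup.coe_inv] at h3
    exact h3

/-- Sylow's theorem inside the normal subgroup `Λ₁(R)` of `Aut_F(R)`, `R` fully automized. -/
theorem cps_ext_sylow [Finite S] (p : ℕ) [Fact p.Prime] (hS : IsPGroup p S) (F : FusionSystem S)
    {T₁ T₂ R : Subgroup Ω} (h₁ : F.StronglyClosed T₁) (h₂ : F.StronglyClosed T₂)
    (hfa : F.IsFullyAutomized p R) {B : Subgroup (MulAut R)} (hB : IsPGroup p B)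
    (hBL : B ≤ cpsLam F T₁ T₂ R) :
    ∃ l ∈ cpsLam F T₁ T₂ R, ∀ b ∈ B, l * b * l⁻¹ ∈ autInducedBy S R := by
  have hRS : R ≤ S := hfa.1
  have hfinR : Finite R := Fusion.finite_of_le hRS
  have hUF : autInducedBy S R ≤ F.autGroup R := Fusion.autInducedBy_le_autGroup F hRS
  have hUp : IsPGroup p (autInducedBy S R) := Fusion.isPGroup_autInducedBy p hS R
  have hLF : cpsLam F T₁ T₂ R ≤ F.autGroup R := fun l hl => hl.1
  have hnorm : F.autGroup R ≤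
      Subgroup.normalizer ((cpsLam F T₁ T₂ R : Subgroup (MulAut R)) : Set (MulAut R)) := by
    intro c hc
    apply mem_normalizer_of_conj_mem_of_finite
    intro a ha
    exact cps_ext_lam_conj F h₁ h₂ hRS hc ha
  have hUcard : Nat.card (autInducedBy S R) = p ^ (Nat.card (F.autGroup R)).factorization p :=
    (exists_sylow_eq_subgroupOf_iff (F.autGroup R) (autInducedBy S R) hUF).mp hfa.2
  have hVcard := card_inf_eq_ppart_of_normal hUF hLF hnorm hUp hUcard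
  obtain ⟨m, hm, hmV⟩ := exists_conj_le_of_card_eq_ppart
    (inf_le_right : autInducedBy S R ⊓ cpsLam F T₁ T₂ R ≤ cpsLam F T₁ T₂ R) hVcard hBL hB
  refine ⟨m, hm, fun b hb => ?_⟩
  have h4 : m * b * m⁻¹ ∈ autInducedBy S R ⊓ cpsLam F T₁ T₂ R := hmV ⟨b, hb, rfl⟩
  exact h4.1

theorem cps_ext_calc {G : Type*} [Group G] {x y t lx : G} (hlx : lx = t * x)
    (h1 : t * (y⁻¹ * x * y * x⁻¹) = (y⁻¹ * x * y * x⁻¹) * t) (h2 : t * y⁻¹ = y⁻¹ * t) :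
    (y⁻¹ * x * y * x⁻¹) * lx = y⁻¹ * lx * y := by
  subst hlx
  calc (y⁻¹ * x * y * x⁻¹) * (t * x) = ((y⁻¹ * x * y * x⁻¹) * t) * x := by group
    _ = (t * (y⁻¹ * x * y * x⁻¹)) * x := by rw [h1]
    _ = (t * y⁻¹) * x * y := by group
    _ = (y⁻¹ * t) * x * y := by rw [h2]
    _ = y⁻¹ * (t * x) * y := by group

/-- Claim 2: `N_{R̄₁}(R)` lies in the extender of every `λ ∈ Λ₁(R)`. -/
theorem cps_ext_lam_extender (F : FusionSystem S) {T₁ T₂ R : Subgroup Ω} (h₁ : F.StronglyClosed T₁)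
    (h₂ : F.StronglyClosed T₂) (hc : CpsComm T₁ T₂) (hR : R ≤ T₁ ⊔ T₂) (hRS : R ≤ S)
    {l : MulAut R} (hl : l ∈ cpsLam F T₁ T₂ R) :
    cpsProj T₁ T₂ R ⊓ Subgroup.normalizer (R : Set Ω) ≤
      extender S R (R.subtype.comp l.toMonoidHom) := by
  intro y₁ hy
  obtain ⟨hy1, hyN⟩ := Subgroup.mem_inf.mp hy
  obtain ⟨hyT, y₂, hy₂, hu₀⟩ := (mem_cpsProj hc hR).mp hy1
  obtain ⟨-, hl2, hl1⟩ := hl
  apply Subgroup.subset_closure
  refine ⟨h₁.1 hyT, hyN, ((l ⟨y₁ * y₂, hu₀⟩ : R) : Ω) * y₂⁻¹,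
    S.mul_mem (hRS (l _).2) (S.inv_mem (h₂.1 hy₂)), ?_⟩
  intro x hx
  show ((l ⟨y₁ * x * y₁⁻¹, hx⟩ : R) : Ω) = ((l ⟨y₁ * y₂, hu₀⟩ : R) : Ω) * y₂⁻¹ * ((l x : R) : Ω) *
    (((l ⟨y₁ * y₂, hu₀⟩ : R) : Ω) * y₂⁻¹)⁻¹
  -- `w = [y₂⁻¹, x] ∈ R ∩ T₂`
  have hwT : y₂⁻¹ * x * y₂ * (x : Ω)⁻¹ ∈ T₂ := by
    have h5 := cps_hull_conj_mem hc hR x.2 hy₂
    have e : y₂⁻¹ * x * y₂ * (x : Ω)⁻¹ = y₂⁻¹ * ((x : Ω) * y₂ * (x : Ω)⁻¹) := by group
    rw [e]; exact T₂.mul_mem (T₂.inv_mem hy₂) h5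
  have hwR : y₂⁻¹ * x * y₂ * (x : Ω)⁻¹ ∈ R := by
    have e : y₂⁻¹ * x * y₂ * (x : Ω)⁻¹ =
        (y₁ * y₂)⁻¹ * (y₁ * x * y₁⁻¹) * (y₁ * y₂) * (x : Ω)⁻¹ := by group
    rw [e]
    exact R.mul_mem (R.mul_mem (R.mul_mem (R.inv_mem hu₀) hx) hu₀) (R.inv_mem x.2)
  have hdec : (⟨y₁ * x * y₁⁻¹, hx⟩ : R) =
      ⟨y₁ * y₂, hu₀⟩ * (⟨y₂⁻¹ * x * y₂ * (x : Ω)⁻¹, hwR⟩ * x) * ⟨y₁ * y₂, hu₀⟩⁻¹ := by
    apply Subtype.ext
    show y₁ * x * y₁⁻¹ = y₁ * y₂ * (y₂⁻¹ * x * y₂ * (x : Ω)⁻¹ * x) * (y₁ * y₂)⁻¹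
    group
  have ht : ((l x : R) : Ω) * (x : Ω)⁻¹ ∈ T₁ := hl1 x
  have key := cps_ext_calc (x := (x : Ω)) (y := y₂) (t := ((l x : R) : Ω) * (x : Ω)⁻¹)
    (lx := ((l x : R) : Ω)) (by group) (hc _ ht _ hwT) (hc _ ht _ (T₂.inv_mem hy₂))
  rw [hdec, map_mul, map_mul, map_mul, map_inv, hl2 ⟨y₂⁻¹ * x * y₂ * (x : Ω)⁻¹, hwR⟩ hwT]
  simp only [Subgroup.coe_mul, Subgroup.coe_inv]
  rw [key]
  group

/-- the twist `λ ∘ θ` of an isomorphism `θ : Q → R` of `F` by `λ ∈ Aut(R)` -/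
noncomputable def cpsTw {Q R : Subgroup Ω} (θ : Q →* Ω) (hinj : Function.Injective θ)
    (hr : θ.range = R) (l : MulAut R) : Q →* Ω :=
  (R.subtype.comp l.toMonoidHom).comp (Fusion.equivOfRange θ hinj hr).toMonoidHom

theorem cpsTw_apply {Q R : Subgroup Ω} (θ : Q →* Ω) (hinj : Function.Injective θ)
    (hr : θ.range = R) (l : MulAut R) (x : Q) :
    cpsTw θ hinj hr l x = ((l (Fusion.equivOfRange θ hinj hr x) : R) : Ω) := rfl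

theorem cpsTw_range {Q R : Subgroup Ω} (θ : Q →* Ω) (hinj : Function.Injective θ)
    (hr : θ.range = R) (l : MulAut R) : (cpsTw θ hinj hr l).range = R := by
  ext y
  constructor
  · rintro ⟨x, rfl⟩
    exact (l _).2
  · intro hy
    refine ⟨(Fusion.equivOfRange θ hinj hr).symm (l⁻¹ ⟨y, hy⟩), ?_⟩
    rw [cpsTw_apply, MulEquiv.apply_symm_apply, MulAut.apply_inv_self]

theorem cpsTw_mem (F : FusionSystem S) {Q R : Subgroup Ω} {θ : Q →* Ω} (hθ : θ ∈ F.Hom Q)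
    (hr : θ.range = R) {l : MulAut R} (hl : l ∈ F.autGroup R) :
    cpsTw θ (F.injective_of_mem hθ) hr l ∈ F.Hom Q := by
  have hRS : R ≤ S := hr ▸ Fusion.range_le F hθ
  have h1 := (Fusion.mem_autGroup_iff F hRS l).mp hl
  have hmap : ∀ x : Q, θ x ∈ R := fun x => hr ▸ ⟨x, rfl⟩
  have h2 := F.comp_mem hθ h1 hmap
  convert h2 using 1
  ext x
  rfl

/-- Claim 1: after twisting by a suitable `λ ∈ Λ₁(R)`, `N_{Q̄₁}(Q)` lies in the extender. -/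
theorem cps_ext_claim1 [Finite S] (p : ℕ) [Fact p.Prime] (hS : IsPGroup p S) (F : FusionSystem S)
    {T₁ T₂ Q R : Subgroup Ω} (h₁ : F.StronglyClosed T₁) (h₂ : F.StronglyClosed T₂)
    (hc : CpsComm T₁ T₂) (hQ : Q ≤ T₁ ⊔ T₂) {θ : Q →* Ω} (hθ : θ ∈ F.Hom Q) (hr : θ.range = R)
    (hfa : F.IsFullyAutomized p R) :
    ∃ l ∈ cpsLam F T₁ T₂ R, cpsProj T₁ T₂ Q ⊓ Subgroup.normalizer (Q : Set Ω) ≤
      extender S Q (cpsTw θ (F.injective_of_mem hθ) hr l) := by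
  have hQS : Q ≤ S := Fusion.src_le F hθ
  have hinj := F.injective_of_mem hθ
  set e := Fusion.equivOfRange θ hinj hr with he
  set N₁ := cpsProj T₁ T₂ Q ⊓ Subgroup.normalizer (Q : Set Ω) with hN₁
  have hN₁S : N₁ ≤ S := (inf_le_left.trans inf_le_left).trans h₁.1
  set B := (autInducedBy N₁ Q).map (MulAut.congr e).toMonoidHom with hBdef
  have hB : IsPGroup p B :=
    (Fusion.isPGroup_autInducedBy (S := N₁) p (hS.to_le hN₁S) Q).map _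
  have hBL : B ≤ cpsLam F T₁ T₂ R := by
    rintro _ ⟨c, hc', rfl⟩
    obtain ⟨g, hg, hcg⟩ := (mem_autInducedBy_iff N₁ Q c).mp hc'
    have hgT : g ∈ T₁ := hg.1.1
    have hcF : c ∈ F.autGroup Q := Fusion.autInducedBy_le_autGroup F hQS
      ((mem_autInducedBy_iff S Q c).mpr ⟨g, hN₁S hg, hcg⟩)
    refine ⟨Fusion.congr_mem_autGroup F hθ hr c hcF, fun u hu => ?_, fun u => ?_⟩
    · have hθv : θ (e.symm u) = u := Fusion.map_equivOfRange_symm θ hinj hr u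
      have hvT : ((e.symm u : Q) : Ω) ∈ T₂ :=
        cps_ext_mem_of_map_mem F h₂ hθ _ (by rw [hθv]; exact hu)
      have hcv : c (e.symm u) = e.symm u := by
        apply Subtype.ext
        rw [hcg]; exact cps_hull_conj_eq hc hgT hvT
      show e (c (e.symm u)) = u
      rw [hcv, MulEquiv.apply_symm_apply]
    · show ((e (c (e.symm u)) : R) : Ω) * (u : Ω)⁻¹ ∈ T₁
      have hθv : θ (e.symm u) = u := Fusion.map_equivOfRange_symm θ hinj hr u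
      have h3 : ((e (c (e.symm u)) : R) : Ω) * (u : Ω)⁻¹ =
          θ (c (e.symm u) * (e.symm u)⁻¹) := by
        rw [map_mul, map_inv, hθv]; rfl
      rw [h3]
      apply Fusion.map_mem_of_stronglyClosed F h₁ hθ
      rw [Subgroup.coe_mul, Subgroup.coe_inv, hcg]
      exact cps_hull_comm_mem hc hgT (hQ (e.symm u).2)
  obtain ⟨l, hl, hlB⟩ := cps_ext_sylow p hS F h₁ h₂ hfa hB hBL
  refine ⟨l, hl, ?_⟩
  intro g hg
  have hgN : g ∈ Subgroup.normalizer (Q : Set Ω) := hg.2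
  apply Subgroup.subset_closure
  refine ⟨hN₁S hg, hgN, ?_⟩
  have hcU : conjAutHom Q ⟨g, hgN⟩ ∈ autInducedBy N₁ Q :=
    Fusion.conjAutHom_mem_autInducedBy (S := N₁) Q ⟨g, hgN⟩ hg
  have hb : MulAut.congr e (conjAutHom Q ⟨g, hgN⟩) ∈ B := Subgroup.mem_map_of_mem _ hcU
  have h1 := hlB _ hb
  rw [mem_autInducedBy_iff] at h1
  obtain ⟨h, hhS, hh⟩ := h1
  refine ⟨h, hhS, fun x hx => ?_⟩
  have h2 := hh (l (e x))
  show ((l (e ⟨g * x * g⁻¹, hx⟩) : R) : Ω) = h * ((l (e x) : R) : Ω) * h⁻¹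
  rw [← h2]
  simp only [MulAut.mul_apply, MulAut.inv_apply_self]
  have h3 : (MulAut.congr e (conjAutHom Q ⟨g, hgN⟩)) (e x) = e ⟨g * x * g⁻¹, hx⟩ := by
    show e (conjAutHom Q ⟨g, hgN⟩ (e.symm (e x))) = _
    rw [MulEquiv.symm_apply_apply]
    rfl
  rw [h3]

/-- normalizers grow: if `Q` is not hull-closed, some element of `Q̄₁ \ Q` normalizes `Q`. -/
theorem cps_ext_exists_normalizing [Finite S] {p : ℕ} [Fact p.Prime] (hS : IsPGroup p S)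
    {T₁ T₂ Q : Subgroup Ω} (hc : CpsComm T₁ T₂) (hQ : Q ≤ T₁ ⊔ T₂) (hTS : T₁ ⊔ T₂ ≤ S)
    (hcl : ¬ cpsHull T₁ T₂ Q ≤ Q) :
    ∃ x ∈ cpsProj T₁ T₂ Q, x ∈ Subgroup.normalizer (Q : Set Ω) ∧ x ∉ Q := by
  have hHS : cpsHull T₁ T₂ Q ≤ S := (cpsHull_le _ _ _).trans hTS
  have hQH : Q ≤ cpsHull T₁ T₂ Q := le_cpsHull hc hQ
  have hfin : Finite (cpsHull T₁ T₂ Q) := Fusion.finite_of_le hHS
  have hne : Q ≠ cpsHull T₁ T₂ Q := fun h => hcl (le_of_eq h.symm)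
  obtain ⟨n, hn, hnQ⟩ := Fusion.exists_mem_normalizerIn_not_mem (S := cpsHull T₁ T₂ Q)
    (hS.to_le hHS) hQH hne
  obtain ⟨hnH, hnN⟩ := Subgroup.mem_inf.mp hn
  rw [cps_hull_eq_sup_proj hc hQ] at hnH
  have hQ' : Q ≤ T₂ ⊔ T₁ := by rw [sup_comm]; exact hQ
  have hnorm : ∀ a ∈ Q, ∀ b ∈ cpsProj T₁ T₂ Q, a * b * a⁻¹ ∈ cpsProj T₁ T₂ Q := by
    intro a ha b hb
    exact ⟨cps_hull_conj_mem (cpsComm_symm hc) hQ' ha hb.1,
      Subgroup.mul_mem _ (Subgroup.mul_mem _ (Subgroup.mem_sup_left ha) hb.2)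
        (Subgroup.inv_mem _ (Subgroup.mem_sup_left ha))⟩
  obtain ⟨a, ha, b, hb, e⟩ := cps_hull_exists_mul_of_normalizes hnorm hnH
  refine ⟨b, hb, ?_, ?_⟩
  · have hb' : b = a⁻¹ * n := by rw [e]; group
    rw [hb']
    exact Subgroup.mul_mem _ (Subgroup.inv_mem _ (Subgroup.le_normalizer ha)) hnN
  · intro hbQ
    apply hnQ
    rw [e]; exact Q.mul_mem ha hbQ

/-- growth step: a map whose extender contains `N_{Q̄₁}(Q)` and whose image is receptive extends to the hull,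
given the statement for all larger subgroups. -/
theorem cps_ext_grow [Finite S] (p : ℕ) [Fact p.Prime] (hS : IsPGroup p S) (F : FusionSystem S)
    {T₁ T₂ : Subgroup Ω} (h₁ : F.StronglyClosed T₁) (h₂ : F.StronglyClosed T₂)
    (hc : CpsComm T₁ T₂) {Q : Subgroup Ω} (hQ : Q ≤ T₁ ⊔ T₂)
    (IH : ∀ (P : Subgroup Ω) (φ : P →* Ω), P ≤ T₁ ⊔ T₂ → φ ∈ F.Hom P → Nat.card Q < Nat.card P →
      CpsExt F T₁ T₂ P φ)
    {θ₀ : Q →* Ω} (hθ₀ : θ₀ ∈ F.Hom Q) (hrec : F.IsReceptive θ₀.range)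
    (hle : cpsProj T₁ T₂ Q ⊓ Subgroup.normalizer (Q : Set Ω) ≤ extender S Q θ₀) :
    CpsExtTo F Q (cpsHull T₁ T₂ Q) θ₀ := by
  have hQS : Q ≤ S := Fusion.src_le F hθ₀
  have hTS : T₁ ⊔ T₂ ≤ S := sup_le h₁.1 h₂.1
  by_cases hcl : cpsHull T₁ T₂ Q ≤ Q
  · exact ⟨θ₀.comp (Subgroup.inclusion hcl), Fusion.restrict_mem F hθ₀ hcl, fun x hx hx' => rfl⟩
  · have hQN : Q ≤ Q ⊔ (cpsProj T₁ T₂ Q ⊓ Subgroup.normalizer (Q : Set Ω)) := le_sup_left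
    have hNext : Q ⊔ (cpsProj T₁ T₂ Q ⊓ Subgroup.normalizer (Q : Set Ω)) ≤ extender S Q θ₀ :=
      sup_le (Fusion.le_extender Q hQS θ₀ (Fusion.map_mem F hθ₀)) hle
    have hNhull : Q ⊔ (cpsProj T₁ T₂ Q ⊓ Subgroup.normalizer (Q : Set Ω)) ≤ cpsHull T₁ T₂ Q :=
      sup_le (le_cpsHull hc hQ) (inf_le_left.trans le_sup_left)
    have hNT : Q ⊔ (cpsProj T₁ T₂ Q ⊓ Subgroup.normalizer (Q : Set Ω)) ≤ T₁ ⊔ T₂ :=
      hNhull.trans (cpsHull_le _ _ _)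
    obtain ⟨x₁, hx₁p, hx₁N, hx₁Q⟩ := cps_ext_exists_normalizing hS hc hQ hTS hcl
    have hfinN : Finite ↥(Q ⊔ (cpsProj T₁ T₂ Q ⊓ Subgroup.normalizer (Q : Set Ω))) :=
      Fusion.finite_of_le (hNT.trans hTS)
    have hlt : Nat.card Q <
        Nat.card ↥(Q ⊔ (cpsProj T₁ T₂ Q ⊓ Subgroup.normalizer (Q : Set Ω))) := by
      apply card_lt_of_lt
      refine lt_of_le_of_ne hQN ?_
      intro h
      apply hx₁Q
      rw [h]
      exact Subgroup.mem_sup_right ⟨hx₁p, hx₁N⟩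
    obtain ⟨ψ', hψ', hext⟩ := hrec.2 Q θ₀ hθ₀ rfl
    have hρ := Fusion.restrict_mem F hψ' hNext
    obtain ⟨ρ', hρ', hρext, -⟩ := IH _ _ hNT hρ hlt
    have hhull := cps_hull_eq_of_le hc hQ hQN hNhull
    have key : ∀ H : Subgroup Ω,
        cpsHull T₁ T₂ (Q ⊔ (cpsProj T₁ T₂ Q ⊓ Subgroup.normalizer (Q : Set Ω))) = H →
          CpsExtTo F Q H θ₀ := by
      rintro H rfl
      refine ⟨ρ', hρ', fun x hx hx' => ?_⟩
      rw [hρext x (hQN hx) hx']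
      exact hext x hx (hNext (hQN hx))
    exact key _ hhull

/-- the inductive step for maps with fully normalized image -/
theorem cps_ext_step_fn [Finite S] (p : ℕ) [Fact p.Prime] (hS : IsPGroup p S) (F : FusionSystem S)
    (hF : F.IsSaturated p) {T₁ T₂ : Subgroup Ω} (h₁ : F.StronglyClosed T₁)
    (h₂ : F.StronglyClosed T₂) (hc : CpsComm T₁ T₂) {Q : Subgroup Ω} (hQ : Q ≤ T₁ ⊔ T₂)
    (IH : ∀ (P : Subgroup Ω) (φ : P →* Ω), P ≤ T₁ ⊔ T₂ → φ ∈ F.Hom P → Nat.card Q < Nat.card P →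
      CpsExt F T₁ T₂ P φ)
    {θ : Q →* Ω} (hθ : θ ∈ F.Hom Q) {R : Subgroup Ω} (hr : θ.range = R)
    (hfn : F.IsFullyNormalized R) : CpsExtTo F Q (cpsHull T₁ T₂ Q) θ := by
  have hT : F.StronglyClosed (T₁ ⊔ T₂) := Fusion.sup_stronglyClosed p hS F hF T₁ T₂ h₁ h₂
  have hRS : R ≤ S := hfn.1
  have hRT : R ≤ T₁ ⊔ T₂ := by
    rw [← hr]
    rintro _ ⟨x, rfl⟩
    exact Fusion.map_mem_of_stronglyClosed F hT hθ x (hQ x.2)
  obtain ⟨hfc, hfa⟩ := Fusion.fullyCentralized_fullyAutomized_of_fullyNormalized p hS F hF hfn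
  have hrec := Fusion.receptive_of_fullyCentralized p hS F hF hfc
  have hinj := F.injective_of_mem hθ
  obtain ⟨l, hl, hle⟩ := cps_ext_claim1 p hS F h₁ h₂ hc hQ hθ hr hfa
  have hθ' : cpsTw θ hinj hr l ∈ F.Hom Q := cpsTw_mem F hθ hr hl.1
  have hθ'r : (cpsTw θ hinj hr l).range = R := cpsTw_range θ hinj hr l
  -- `λθ` extends to the hull of `Q`
  have hrec' : F.IsReceptive (cpsTw θ hinj hr l).range := by rw [hθ'r]; exact hrec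
  have hE1 := cps_ext_grow p hS F h₁ h₂ hc hQ IH hθ' hrec' hle
  obtain ⟨ρ, hρ, hρext, hρr⟩ := cps_ext_of_extTo F h₁ h₂ hc hQ hE1
  rw [hθ'r] at hρr
  -- `λ⁻¹` extends to the hull of `R`
  have hl' : l⁻¹ ∈ cpsLam F T₁ T₂ R := Subgroup.inv_mem _ hl
  have hκ0 : R.subtype.comp (l⁻¹).toMonoidHom ∈ F.Hom R :=
    (Fusion.mem_autGroup_iff F hRS _).mp hl'.1
  have hcard : Nat.card Q = Nat.card R := Fusion.card_eq_of_isConj F ⟨θ, hθ, hr⟩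
  have IH' : ∀ (P : Subgroup Ω) (φ : P →* Ω), P ≤ T₁ ⊔ T₂ → φ ∈ F.Hom P →
      Nat.card R < Nat.card P → CpsExt F T₁ T₂ P φ := by
    intro P φ hP hφ hlt
    exact IH P φ hP hφ (by rw [hcard]; exact hlt)
  have hrec'' : F.IsReceptive (R.subtype.comp (l⁻¹).toMonoidHom).range := by
    rw [StrongInv.range_aut]; exact hrec
  obtain ⟨κ, hκ, hκext⟩ := cps_ext_grow p hS F h₁ h₂ hc hRT IH' hκ0 hrec''
    (cps_ext_lam_extender F h₁ h₂ hc hRT hRS hl')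
  -- compose
  have hρmap : ∀ x, ρ x ∈ cpsHull T₁ T₂ R := fun x => by rw [← hρr]; exact ⟨x, rfl⟩
  refine ⟨κ.comp (ρ.codRestrict _ hρmap), F.comp_mem hρ hκ hρmap, fun x hx hx' => ?_⟩
  have hRhull : R ≤ cpsHull T₁ T₂ R := le_cpsHull hc hRT
  have h5 : ρ ⟨x, hx'⟩ = ((l (Fusion.equivOfRange θ hinj hr ⟨x, hx⟩) : R) : Ω) := by
    rw [hρext x hx hx', cpsTw_apply]
  have h6 : (ρ.codRestrict _ hρmap ⟨x, hx'⟩ : ↥(cpsHull T₁ T₂ R)) =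
      ⟨((l (Fusion.equivOfRange θ hinj hr ⟨x, hx⟩) : R) : Ω), hRhull (l _).2⟩ :=
    Subtype.ext h5
  show κ (ρ.codRestrict _ hρmap ⟨x, hx'⟩) = θ ⟨x, hx⟩
  rw [h6, hκext _ (l _).2 _]
  show ((l⁻¹ (l (Fusion.equivOfRange θ hinj hr ⟨x, hx⟩)) : R) : Ω) = θ ⟨x, hx⟩
  rw [MulAut.inv_apply_self]
  rfl

/-- the inductive step -/
theorem cps_ext_step [Finite S] (p : ℕ) [Fact p.Prime] (hS : IsPGroup p S) (F : FusionSystem S)
    (hF : F.IsSaturated p) {T₁ T₂ : Subgroup Ω} (h₁ : F.StronglyClosed T₁)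
    (h₂ : F.StronglyClosed T₂) (hc : CpsComm T₁ T₂) {Q : Subgroup Ω} (hQ : Q ≤ T₁ ⊔ T₂)
    (IH : ∀ (P : Subgroup Ω) (φ : P →* Ω), P ≤ T₁ ⊔ T₂ → φ ∈ F.Hom P → Nat.card Q < Nat.card P →
      CpsExt F T₁ T₂ P φ)
    {ψ : Q →* Ω} (hψ : ψ ∈ F.Hom Q) : CpsExt F T₁ T₂ Q ψ := by
  have hT : F.StronglyClosed (T₁ ⊔ T₂) := Fusion.sup_stronglyClosed p hS F hF T₁ T₂ h₁ h₂
  have hQ'S : ψ.range ≤ S := Fusion.range_le F hψ
  have hQ'T : ψ.range ≤ T₁ ⊔ T₂ := by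
    rintro _ ⟨x, rfl⟩
    exact Fusion.map_mem_of_stronglyClosed F hT hψ x (hQ x.2)
  obtain ⟨Rs, hconj, hfn⟩ := Fusion.exists_isConj_fullyNormalized F hQ'S
  obtain ⟨hfc, hfa⟩ := Fusion.fullyCentralized_fullyAutomized_of_fullyNormalized p hS F hF hfn
  have hrec := Fusion.receptive_of_fullyCentralized p hS F hF hfc
  obtain ⟨χ0, hχ0, -, hχ0map⟩ := Fusion.exists_hom_normalizerIn p hS F hfa hrec hconj
  have hQ'N : ψ.range ≤ normalizerIn S ψ.range := Fusion.le_normalizerIn hQ'S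
  have hθ₂ : χ0.comp (Subgroup.inclusion hQ'N) ∈ F.Hom ψ.range := Fusion.restrict_mem F hχ0 hQ'N
  have hθ₂r : (χ0.comp (Subgroup.inclusion hQ'N)).range = Rs := by
    rw [← hχ0map]
    ext y
    constructor
    · rintro ⟨x, rfl⟩
      exact ⟨Subgroup.inclusion hQ'N x, Subgroup.mem_subgroupOf.mpr x.2, rfl⟩
    · rintro ⟨x, hx, rfl⟩
      exact ⟨⟨x, Subgroup.mem_subgroupOf.mp hx⟩, rfl⟩
  have hψmap : ∀ x : Q, ψ x ∈ ψ.range := fun x => ⟨x, rfl⟩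
  have hθ₁ := F.comp_mem hψ hθ₂ hψmap
  have hθ₁r : ((χ0.comp (Subgroup.inclusion hQ'N)).comp (ψ.codRestrict ψ.range hψmap)).range =
      Rs := by
    rw [← hθ₂r]
    ext y
    constructor
    · rintro ⟨x, rfl⟩
      exact ⟨_, rfl⟩
    · rintro ⟨⟨_, x, rfl⟩, rfl⟩
      exact ⟨x, rfl⟩
  have hcard : Nat.card Q = Nat.card ψ.range := Fusion.card_eq_of_isConj F ⟨ψ, hψ, rfl⟩
  have IH' : ∀ (P : Subgroup Ω) (φ : P →* Ω), P ≤ T₁ ⊔ T₂ → φ ∈ F.Hom P →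
      Nat.card ψ.range < Nat.card P → CpsExt F T₁ T₂ P φ := by
    intro P φ hP hφ hlt
    exact IH P φ hP hφ (by rw [hcard]; exact hlt)
  obtain ⟨μ, hμ, hμext, hμr⟩ := cps_ext_of_extTo F h₁ h₂ hc hQ
    (cps_ext_step_fn p hS F hF h₁ h₂ hc hQ IH hθ₁ hθ₁r hfn)
  obtain ⟨μ', hμ', hμ'ext, hμ'r⟩ := cps_ext_of_extTo F h₁ h₂ hc hQ'T
    (cps_ext_step_fn p hS F hF h₁ h₂ hc hQ'T IH' hθ₂ hθ₂r hfn)
  rw [hθ₁r] at hμr
  rw [hθ₂r] at hμ'r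
  obtain ⟨ν, hν, hνinv, -⟩ := Fusion.exists_inv F hμ' rfl
  have hμmap : ∀ x, μ x ∈ μ'.range := fun x => by rw [hμ'r, ← hμr]; exact ⟨x, rfl⟩
  apply cps_ext_of_extTo F h₁ h₂ hc hQ
  refine ⟨ν.comp (μ.codRestrict _ hμmap), F.comp_mem hμ hν hμmap, fun x hx hx' => ?_⟩
  have hQ'hull : ψ.range ≤ cpsHull T₁ T₂ ψ.range := le_cpsHull hc hQ'T
  have h5 : μ ⟨x, hx'⟩ = μ' ⟨ψ ⟨x, hx⟩, hQ'hull (hψmap ⟨x, hx⟩)⟩ := by
    rw [hμext x hx hx', hμ'ext _ (hψmap ⟨x, hx⟩) _]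
    rfl
  have h6 : (μ.codRestrict _ hμmap ⟨x, hx'⟩ : ↥μ'.range) =
      ⟨μ' ⟨ψ ⟨x, hx⟩, hQ'hull (hψmap ⟨x, hx⟩)⟩, ⟨_, rfl⟩⟩ := Subtype.ext h5
  show ν (μ.codRestrict _ hμmap ⟨x, hx'⟩) = ψ ⟨x, hx⟩
  rw [h6]
  exact hνinv _ _

/-- **EXT**: only `F` saturated, `T₁`, `T₂` strongly closed and commuting. -/
theorem cps_ext [Finite S] (p : ℕ) [Fact p.Prime] (hS : IsPGroup p S) (F : FusionSystem S)
    (hF : F.IsSaturated p) {T₁ T₂ : Subgroup Ω} (h₁ : F.StronglyClosed T₁) (h₂ : F.StronglyClosed T₂)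
    (hc : CpsComm T₁ T₂) {Q : Subgroup Ω} (hQ : Q ≤ T₁ ⊔ T₂) {ψ : Q →* Ω} (hψ : ψ ∈ F.Hom Q) :
    CpsExt F T₁ T₂ Q ψ := by
  have hTS : T₁ ⊔ T₂ ≤ S := sup_le h₁.1 h₂.1
  have hfinT : Finite ↥(T₁ ⊔ T₂) := Fusion.finite_of_le hTS
  have main : ∀ n : ℕ, ∀ Q : Subgroup Ω, Q ≤ T₁ ⊔ T₂ →
      Nat.card ↥(T₁ ⊔ T₂) - Nat.card Q = n → ∀ ψ : Q →* Ω, ψ ∈ F.Hom Q → CpsExt F T₁ T₂ Q ψ := by
    intro n
    induction n using Nat.strong_induction_on with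
    | _ n ih =>
      intro Q hQ hn ψ hψ
      apply cps_ext_step p hS F hF h₁ h₂ hc hQ _ hψ
      intro P φ hP hφ hlt
      have hPle : Nat.card P ≤ Nat.card ↥(T₁ ⊔ T₂) := Subgroup.card_le_of_le hP
      exact ih (Nat.card ↥(T₁ ⊔ T₂) - Nat.card P) (by omega) P hP rfl φ hφ
  exact main _ Q hQ rfl ψ hψ

end Cfsg.Agent.CPS
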