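import Mathlib
import Cfsg.Prelude.Def_FusionComponents
import Cfsg.Agent.Lead.Fusion
import Cfsg.Agent.Lead.FusionAut
import Cfsg.Agent.Lead.FusionExtT
import Cfsg.Agent.CPS.Hull

/-!
S5138 (project CPS, `notes/S5138_helper8.md`), part of piece P2 (helper8): the extender computation of step (2) of EXT.

`T₁`, `T₂` commute, `Q' ≤ T₁T₂`, `χ` an automorphism of `Q'` that fixes `Q' ∩ T₂` pointwise and moves every `u ∈ Q'`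
inside `T₁ u`.  Then for `y₁` in the first projection of `Q'` normalizing `Q'`, with `u₀ = y₁ y₂ ∈ Q'`, `y₂ ∈ T₂`:
`χ (y₁ x y₁⁻¹) = h χ(x) h⁻¹` with `h = χ(u₀) y₂⁻¹`.  Hence `N_{proj₁ Q'}(Q')` lies in the extender of `χ`.
-/

set_option autoImplicit false

namespace Cfsg.Agent.CPS

open Cfsg Cfsg.FusionSystem Cfsg.Agent.Lead

variable {Ω : Type*} [Group Ω] {S : Subgroup Ω}

/-- The conjugation formula of step (2). -/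
theorem cps_extb_conj_formula {T₁ T₂ Q' : Subgroup Ω} (hc : CpsComm T₁ T₂) (hQ' : Q' ≤ T₁ ⊔ T₂)
    (χ : MulAut Q') (hfix : ∀ u : Q', (u : Ω) ∈ T₂ → χ u = u)
    (hT₁ : ∀ u : Q', ((χ u : Q') : Ω) * (u : Ω)⁻¹ ∈ T₁)
    {y₁ y₂ : Ω} (hy₁N : y₁ ∈ Subgroup.normalizer (Q' : Set Ω)) (hy₂ : y₂ ∈ T₂)
    (hu₀ : y₁ * y₂ ∈ Q') (x : Q') (hx : y₁ * (x : Ω) * y₁⁻¹ ∈ Q') :
    ((χ ⟨y₁ * (x : Ω) * y₁⁻¹, hx⟩ : Q') : Ω) =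
      (((χ ⟨y₁ * y₂, hu₀⟩ : Q') : Ω) * y₂⁻¹) * ((χ x : Q') : Ω) * (((χ ⟨y₁ * y₂, hu₀⟩ : Q') : Ω) * y₂⁻¹)⁻¹ := by
  -- `y₂` normalizes `Q'`
  have hy₂N : y₂ ∈ Subgroup.normalizer (Q' : Set Ω) := by
    have h1 : y₁⁻¹ * (y₁ * y₂) ∈ Subgroup.normalizer (Q' : Set Ω) :=
      Subgroup.mul_mem _ (Subgroup.inv_mem _ hy₁N) (Subgroup.le_normalizer hu₀)
    rwa [inv_mul_cancel_left] at h1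
  have hx' : y₂⁻¹ * (x : Ω) * y₂ ∈ Q' := by
    have h1 := (Subgroup.mem_normalizer_iff.mp (Subgroup.inv_mem _ hy₂N) (x : Ω)).mp x.2
    simpa using h1
  -- `c = x⁻¹ x' ∈ T₂`
  obtain ⟨x₁, hx₁, x₂, hx₂, hxx⟩ := cps_hull_exists_mul hc (hQ' x.2)
  have hcT₂ : (x : Ω)⁻¹ * (y₂⁻¹ * (x : Ω) * y₂) ∈ T₂ := by
    have h1 : (x : Ω)⁻¹ * (y₂⁻¹ * (x : Ω) * y₂) = x₂⁻¹ * (y₂⁻¹ * x₂ * y₂) := by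
      rw [hxx]
      have hcomm : x₁ * y₂⁻¹ = y₂⁻¹ * x₁ := hc x₁ hx₁ y₂⁻¹ (Subgroup.inv_mem _ hy₂)
      have hcomm2 : x₁⁻¹ * y₂⁻¹ = y₂⁻¹ * x₁⁻¹ := hc x₁⁻¹ (Subgroup.inv_mem _ hx₁) y₂⁻¹ (Subgroup.inv_mem _ hy₂)
      calc (x₁ * x₂)⁻¹ * (y₂⁻¹ * (x₁ * x₂) * y₂)
          = x₂⁻¹ * (x₁⁻¹ * y₂⁻¹) * x₁ * x₂ * y₂ := by group
        _ = x₂⁻¹ * (y₂⁻¹ * x₁⁻¹) * x₁ * x₂ * y₂ := by rw [hcomm2]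
        _ = x₂⁻¹ * (y₂⁻¹ * x₂ * y₂) := by group
    rw [h1]
    exact Subgroup.mul_mem _ (Subgroup.inv_mem _ hx₂)
      (Subgroup.mul_mem _ (Subgroup.mul_mem _ (Subgroup.inv_mem _ hy₂) hx₂) hy₂)
  -- `χ x' = y₂⁻¹ χ(x) y₂`
  have hχx' : ((χ ⟨y₂⁻¹ * (x : Ω) * y₂, hx'⟩ : Q') : Ω) = y₂⁻¹ * ((χ x : Q') : Ω) * y₂ := by
    have hcQ : (x : Ω)⁻¹ * (y₂⁻¹ * (x : Ω) * y₂) ∈ Q' := Subgroup.mul_mem _ (Subgroup.inv_mem _ x.2) hx'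
    have h1 : (⟨y₂⁻¹ * (x : Ω) * y₂, hx'⟩ : Q') = x * ⟨(x : Ω)⁻¹ * (y₂⁻¹ * (x : Ω) * y₂), hcQ⟩ := by
      apply Subtype.ext
      show y₂⁻¹ * (x : Ω) * y₂ = (x : Ω) * ((x : Ω)⁻¹ * (y₂⁻¹ * (x : Ω) * y₂))
      group
    rw [h1, map_mul, hfix ⟨(x : Ω)⁻¹ * (y₂⁻¹ * (x : Ω) * y₂), hcQ⟩ hcT₂]
    show ((χ x : Q') : Ω) * ((x : Ω)⁻¹ * (y₂⁻¹ * (x : Ω) * y₂)) = y₂⁻¹ * ((χ x : Q') : Ω) * y₂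
    -- `t = χ(x) x⁻¹ ∈ T₁` commutes with `y₂`
    have ht := hT₁ x
    have hcomm : (((χ x : Q') : Ω) * (x : Ω)⁻¹) * y₂⁻¹ = y₂⁻¹ * (((χ x : Q') : Ω) * (x : Ω)⁻¹) :=
      hc _ ht y₂⁻¹ (Subgroup.inv_mem _ hy₂)
    calc ((χ x : Q') : Ω) * ((x : Ω)⁻¹ * (y₂⁻¹ * (x : Ω) * y₂))
        = ((((χ x : Q') : Ω) * (x : Ω)⁻¹) * y₂⁻¹) * (x : Ω) * y₂ := by group
      _ = (y₂⁻¹ * (((χ x : Q') : Ω) * (x : Ω)⁻¹)) * (x : Ω) * y₂ := by rw [hcomm]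
      _ = y₂⁻¹ * ((χ x : Q') : Ω) * y₂ := by group
  -- `y₁ x y₁⁻¹ = u₀ x' u₀⁻¹`
  have h2 : (⟨y₁ * (x : Ω) * y₁⁻¹, hx⟩ : Q') =
      ⟨y₁ * y₂, hu₀⟩ * ⟨y₂⁻¹ * (x : Ω) * y₂, hx'⟩ * (⟨y₁ * y₂, hu₀⟩ : Q')⁻¹ := by
    apply Subtype.ext
    show y₁ * (x : Ω) * y₁⁻¹ = (y₁ * y₂) * (y₂⁻¹ * (x : Ω) * y₂) * (y₁ * y₂)⁻¹
    group
  rw [h2, map_mul, map_mul, map_inv]
  show ((χ ⟨y₁ * y₂, hu₀⟩ : Q') : Ω) * ((χ ⟨y₂⁻¹ * (x : Ω) * y₂, hx'⟩ : Q') : Ω) *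
      ((χ ⟨y₁ * y₂, hu₀⟩ : Q') : Ω)⁻¹ = _
  rw [hχx']
  group

/-- Step (2) of EXT: `N_{proj₁ Q'}(Q')` lies in the extender of `χ`. -/
theorem cps_extb_extender {T₁ T₂ Q' : Subgroup Ω} (hT₁S : T₁ ≤ S) (hT₂S : T₂ ≤ S)
    (hc : CpsComm T₁ T₂) (hQ' : Q' ≤ T₁ ⊔ T₂)
    (χ : MulAut Q') (hfix : ∀ u : Q', (u : Ω) ∈ T₂ → χ u = u)
    (hT₁ : ∀ u : Q', ((χ u : Q') : Ω) * (u : Ω)⁻¹ ∈ T₁) :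
    normalizerIn (cpsProj T₁ T₂ Q') Q' ≤ extender S Q' (Q'.subtype.comp χ.toMonoidHom) := by
  intro y₁ hy₁
  obtain ⟨hy₁P, hy₁N⟩ := Subgroup.mem_inf.mp hy₁
  obtain ⟨hy₁T, y₂, hy₂, hu₀⟩ := (mem_cpsProj hc hQ').mp hy₁P
  have hQ'S : Q' ≤ S := hQ'.trans (sup_le hT₁S hT₂S)
  apply Subgroup.subset_closure
  refine ⟨hT₁S hy₁T, hy₁N, ((χ ⟨y₁ * y₂, hu₀⟩ : Q') : Ω) * y₂⁻¹, ?_, fun x hx => ?_⟩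
  · exact Subgroup.mul_mem _ (hQ'S (χ ⟨y₁ * y₂, hu₀⟩).2) (Subgroup.inv_mem _ (hT₂S hy₂))
  · exact cps_extb_conj_formula hc hQ' χ hfix hT₁ hy₁N hy₂ hu₀ x hx

/-- `Λ₁(Q')`: the automorphisms of `Q'` fixing `Q' ∩ T₂` pointwise and moving every `u` inside `T₁ u`. -/
def cpsLambda (T₁ T₂ Q' : Subgroup Ω) : Subgroup (MulAut Q') where
  carrier := {l | (∀ u : Q', (u : Ω) ∈ T₂ → l u = u) ∧ ∀ u : Q', ((l u : Q') : Ω) * (u : Ω)⁻¹ ∈ T₁}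
  one_mem' := ⟨fun _ _ => rfl, fun u => by simp⟩
  mul_mem' := by
    rintro a b ⟨ha, ha'⟩ ⟨hb, hb'⟩
    refine ⟨fun u hu => ?_, fun u => ?_⟩
    · rw [MulAut.mul_apply, hb u hu, ha u hu]
    · have h1 := ha' (b u)
      have h2 := hb' u
      have h3 : (((a * b) u : Q') : Ω) * (u : Ω)⁻¹ =
          (((a (b u) : Q') : Ω) * ((b u : Q') : Ω)⁻¹) * (((b u : Q') : Ω) * (u : Ω)⁻¹) := by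
        rw [MulAut.mul_apply]; group
      rw [h3]
      exact Subgroup.mul_mem _ h1 h2
  inv_mem' := by
    rintro a ⟨ha, ha'⟩
    refine ⟨fun u hu => ?_, fun u => ?_⟩
    · have h1 := ha u hu
      calc a⁻¹ u = a⁻¹ (a u) := by rw [h1]
        _ = u := by simp
    · have h1 := ha' (a⁻¹ u)
      have h2 : ((a (a⁻¹ u) : Q') : Ω) = (u : Ω) := by simp
      rw [h2] at h1
      have h3 : ((a⁻¹ u : Q') : Ω) * (u : Ω)⁻¹ = ((u : Ω) * ((a⁻¹ u : Q') : Ω)⁻¹)⁻¹ := by group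
      rw [h3]
      exact Subgroup.inv_mem _ h1

theorem mem_cpsLambda {T₁ T₂ Q' : Subgroup Ω} {l : MulAut Q'} :
    l ∈ cpsLambda T₁ T₂ Q' ↔
      (∀ u : Q', (u : Ω) ∈ T₂ → l u = u) ∧ ∀ u : Q', ((l u : Q') : Ω) * (u : Ω)⁻¹ ∈ T₁ := Iff.rfl

/-- `Λ₁(Q')` is normalized by `Aut_F(Q')` (`T₁`, `T₂` strongly closed). -/
theorem cpsLambda_conj_mem (F : FusionSystem S) {T₁ T₂ Q' : Subgroup Ω} (h₁ : F.StronglyClosed T₁)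
    (h₂ : F.StronglyClosed T₂) (hQ'S : Q' ≤ S) (c : MulAut Q') (hc' : c ∈ F.autGroup Q')
    (l : MulAut Q') (hl : l ∈ cpsLambda T₁ T₂ Q') : c * l * c⁻¹ ∈ cpsLambda T₁ T₂ Q' := by
  obtain ⟨hl1, hl2⟩ := hl
  have hcF := (Fusion.mem_autGroup_iff F hQ'S c).mp hc'
  have hciF := (Fusion.mem_autGroup_iff F hQ'S c⁻¹).mp (Subgroup.inv_mem _ hc')
  refine ⟨fun u hu => ?_, fun u => ?_⟩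
  · have h1 : ((c⁻¹ u : Q') : Ω) ∈ T₂ := Fusion.map_mem_of_stronglyClosed F h₂ hciF u hu
    rw [MulAut.mul_apply, MulAut.mul_apply, hl1 _ h1]
    simp
  · have h1 := hl2 (c⁻¹ u)
    -- `c` maps `l(v) v⁻¹ ∈ Q' ∩ T₁` into `T₁`
    have hmem : ((l (c⁻¹ u) : Q') : Ω) * ((c⁻¹ u : Q') : Ω)⁻¹ ∈ Q' :=
      Subgroup.mul_mem _ (l (c⁻¹ u)).2 (Subgroup.inv_mem _ (c⁻¹ u).2)
    have h2 := Fusion.map_mem_of_stronglyClosed F h₁ hcF ⟨_, hmem⟩ h1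
    have h3 : (⟨((l (c⁻¹ u) : Q') : Ω) * ((c⁻¹ u : Q') : Ω)⁻¹, hmem⟩ : Q') = l (c⁻¹ u) * (c⁻¹ u)⁻¹ :=
      Subtype.ext rfl
    rw [h3] at h2
    have h4 : (Q'.subtype.comp c.toMonoidHom) (l (c⁻¹ u) * (c⁻¹ u)⁻¹) =
        (((c * l * c⁻¹) u : Q') : Ω) * (u : Ω)⁻¹ := by
      show ((c (l (c⁻¹ u) * (c⁻¹ u)⁻¹) : Q') : Ω) = _
      rw [map_mul, map_inv]
      simp
    rw [h4] at h2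
    exact h2

/-- conjugation by an element of `T₁` fixes `T₂` and moves `u ∈ T₁T₂` inside `T₁ u`. -/
theorem cps_extb_conj_move {T₁ T₂ : Subgroup Ω} (hc : CpsComm T₁ T₂) {x₁ u : Ω} (hx₁ : x₁ ∈ T₁)
    (hu : u ∈ T₁ ⊔ T₂) : (x₁ * u * x₁⁻¹) * u⁻¹ ∈ T₁ := by
  obtain ⟨u₁, hu₁, u₂, hu₂, rfl⟩ := cps_hull_exists_mul hc hu
  have hcomm : x₁⁻¹ * u₂⁻¹ = u₂⁻¹ * x₁⁻¹ := hc _ (Subgroup.inv_mem _ hx₁) _ (Subgroup.inv_mem _ hu₂)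
  have h : (x₁ * (u₁ * u₂) * x₁⁻¹) * (u₁ * u₂)⁻¹ = x₁ * u₁ * x₁⁻¹ * u₁⁻¹ := by
    calc (x₁ * (u₁ * u₂) * x₁⁻¹) * (u₁ * u₂)⁻¹
        = x₁ * u₁ * u₂ * (x₁⁻¹ * u₂⁻¹) * u₁⁻¹ := by group
      _ = x₁ * u₁ * u₂ * (u₂⁻¹ * x₁⁻¹) * u₁⁻¹ := by rw [hcomm]
      _ = x₁ * u₁ * x₁⁻¹ * u₁⁻¹ := by group
  rw [h]
  exact Subgroup.mul_mem _ (Subgroup.mul_mem _ (Subgroup.mul_mem _ hx₁ hu₁) (Subgroup.inv_mem _ hx₁))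
    (Subgroup.inv_mem _ hu₁)

theorem cps_extb_conj_fix {T₁ T₂ : Subgroup Ω} (hc : CpsComm T₁ T₂) {x₁ u : Ω} (hx₁ : x₁ ∈ T₁)
    (hu : u ∈ T₂) : x₁ * u * x₁⁻¹ = u := by
  rw [hc x₁ hx₁ u hu, mul_inv_cancel_right]

end Cfsg.Agent.CPS
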