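import Mathlib
import Cfsg.Prelude.Def_FusionComponents
import Cfsg.Agent.CPS.Hull
import Cfsg.Agent.CPS.Maps
import Cfsg.Agent.CSE.Basic
import Cfsg.Agent.CSE.Restrict
import Cfsg.Agent.CSE.LocalA
import Cfsg.Agent.COP.Basic
import Cfsg.Agent.COP.LemmaXBase
import Cfsg.Agent.Lead.FusionNormal
import Cfsg.Agent.Lead.FusionInvariant
import Cfsg.Agent.Lead.FusionKNorm6
import Cfsg.Agent.Lead.FusionStab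

/-!
S5138 (`notes/S5138_helper8.md`), piece P6 (helper2): C9, the extension condition for the central product `D` of
the commuting normal subsystems `E₁`, `E₂` of `F`.
-/

set_option autoImplicit false
set_option linter.unusedVariables false

namespace Cfsg.Agent.CPS

open Cfsg Cfsg.FusionSystem Cfsg.Agent.Lead Cfsg.Agent.CSE Cfsg.Agent.COP

variable {Ω : Type*} [Group Ω] {S : Subgroup Ω}

/-- Every map of a system fixes the elements of a central subgroup lying in its source. -/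
theorem cps_extc_fix {T : Subgroup Ω} [Finite T] (E : FusionSystem T) {Z P : Subgroup Ω}
    (hZ : Z ≤ E.center) {φ : P →* Ω} (hφ : φ ∈ E.Hom P) (x : P) (hx : (x : Ω) ∈ Z) : φ x = x := by
  obtain ⟨ψ, -, hψP, hψZ⟩ := (Fusion.center_isCentral E).2 P φ hφ
  have h1 := hψP x
  have h2 := hψZ ⟨(x : Ω), hZ hx⟩
  have h3 : Subgroup.inclusion (le_sup_left : P ≤ P ⊔ E.center) x =
      Subgroup.inclusion (le_sup_right : E.center ≤ P ⊔ E.center) ⟨(x : Ω), hZ hx⟩ :=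
    Subtype.ext rfl
  rw [← h1, h3, h2]

/-- `γ ∈ Aut(Tt)` is `α₁` on `T₁` and the identity on `T₂`. -/
def CpsExtcPair (T₁ T₂ Tt : Subgroup Ω) (α₁ : MulAut T₁) (γ : MulAut Tt) : Prop :=
  (∀ (x : Ω) (hx : x ∈ T₁) (hx' : x ∈ Tt), ((γ ⟨x, hx'⟩ : Tt) : Ω) = ((α₁ ⟨x, hx⟩ : T₁) : Ω)) ∧
  ∀ (x : Ω) (_ : x ∈ T₂) (hx' : x ∈ Tt), ((γ ⟨x, hx'⟩ : Tt) : Ω) = x

theorem cps_extc_pair_mul {T₁ T₂ Tt : Subgroup Ω} (hT₁ : T₁ ≤ Tt) {α α' : MulAut T₁}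
    {γ γ' : MulAut Tt} (h : CpsExtcPair T₁ T₂ Tt α γ) (h' : CpsExtcPair T₁ T₂ Tt α' γ') :
    CpsExtcPair T₁ T₂ Tt (α * α') (γ * γ') := by
  refine ⟨fun x hx hx' => ?_, fun x hx hx' => ?_⟩
  · show ((γ (γ' ⟨x, hx'⟩) : Tt) : Ω) = ((α (α' ⟨x, hx⟩) : T₁) : Ω)
    have h1 : γ' ⟨x, hx'⟩ = ⟨((α' ⟨x, hx⟩ : T₁) : Ω), hT₁ (α' ⟨x, hx⟩).2⟩ :=
      Subtype.ext (h'.1 x hx hx')
    rw [h1]
    exact h.1 _ (α' ⟨x, hx⟩).2 _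
  · show ((γ (γ' ⟨x, hx'⟩) : Tt) : Ω) = x
    have h1 : γ' ⟨x, hx'⟩ = ⟨x, hx'⟩ := Subtype.ext (h'.2 x hx hx')
    rw [h1]
    exact h.2 x hx hx'

/-- The inner case: conjugation by an element of `T₁`. -/
theorem cps_extc_lift_inner [Finite S] (F : FusionSystem S) {T₁ T₂ : Subgroup Ω} (hT₁S : T₁ ≤ S)
    (hT₂S : T₂ ≤ S) (hc : CpsComm T₁ T₂) (α₁ : MulAut T₁) (hα₁ : α₁ ∈ autInducedBy T₁ T₁) :
    ∃ (γ : MulAut ↥(T₁ ⊔ T₂)) (β : MulAut ↥((T₁ ⊔ T₂) ⊔ centralizerIn S (T₁ ⊔ T₂))),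
      CseGood F (T₁ ⊔ T₂) (centralizerIn S (T₁ ⊔ T₂)) γ β ∧
        CpsExtcPair T₁ T₂ (T₁ ⊔ T₂) α₁ γ := by
  obtain ⟨t, ht, htx⟩ := (mem_autInducedBy_iff T₁ T₁ α₁).mp hα₁
  have htT : t ∈ T₁ ⊔ T₂ := (le_sup_left : T₁ ≤ T₁ ⊔ T₂) ht
  have htW : t ∈ (T₁ ⊔ T₂) ⊔ centralizerIn S (T₁ ⊔ T₂) :=
    (le_sup_left : T₁ ⊔ T₂ ≤ (T₁ ⊔ T₂) ⊔ centralizerIn S (T₁ ⊔ T₂)) htT
  have htS : t ∈ S := hT₁S ht
  have hWS : (T₁ ⊔ T₂) ⊔ centralizerIn S (T₁ ⊔ T₂) ≤ S :=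
    sup_le (sup_le hT₁S hT₂S) inf_le_left
  refine ⟨conjAutHom (T₁ ⊔ T₂) ⟨t, Subgroup.le_normalizer htT⟩,
    conjAutHom ((T₁ ⊔ T₂) ⊔ centralizerIn S (T₁ ⊔ T₂)) ⟨t, Subgroup.le_normalizer htW⟩,
    ⟨?_, ?_, ?_⟩, ?_, ?_⟩
  · exact Fusion.autInducedBy_le_autGroup F hWS
      (Fusion.conjAutHom_mem_autInducedBy (S := S) _ ⟨t, Subgroup.le_normalizer htW⟩ htS)
  · intro u
    rfl
  · intro c hcC
    show (c : Ω)⁻¹ * (t * (c : Ω) * t⁻¹) ∈ cseZ (T₁ ⊔ T₂)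
    have h1 := (cse_locA_mem_centralizerIn.mp hcC).2 t htT
    have h2 : (c : Ω)⁻¹ * (t * (c : Ω) * t⁻¹) = 1 := by
      rw [h1]; group
    rw [h2]
    exact Subgroup.one_mem _
  · intro x hx hx'
    show t * x * t⁻¹ = ((α₁ ⟨x, hx⟩ : T₁) : Ω)
    exact (htx ⟨x, hx⟩).symm
  · intro x hx hx'
    show t * x * t⁻¹ = x
    rw [hc t ht x hx]
    group

/-- `Z(T₁) ≤ Z(T₁T₂)` when `T₁` and `T₂` commute. -/
theorem cps_extc_cseZ_le {T₁ T₂ : Subgroup Ω} (hc : CpsComm T₁ T₂) : cseZ T₁ ≤ cseZ (T₁ ⊔ T₂) := by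
  intro z hz
  obtain ⟨hz₁, hzc⟩ := mem_cseZ.mp hz
  refine mem_cseZ.mpr ⟨(le_sup_left : T₁ ≤ T₁ ⊔ T₂) hz₁, ?_⟩
  have hle : T₁ ⊔ T₂ ≤ Subgroup.centralizer ({z} : Set Ω) := by
    apply sup_le
    · intro u hu
      rw [Subgroup.mem_centralizer_singleton_iff]
      exact hzc u hu
    · intro y hy
      rw [Subgroup.mem_centralizer_singleton_iff]
      exact (hc z hz₁ y hy).symm
  intro u hu
  exact Subgroup.mem_centralizer_singleton_iff.mp (hle hu)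

/-- The `p'`-case: the extension condition of `E₁` in `F`. -/
theorem cps_extc_lift_pprime [Finite S] (p : ℕ) [Fact p.Prime] (hS : IsPGroup p S)
    (F : FusionSystem S) {T₁ T₂ : Subgroup Ω} (E₁ : FusionSystem T₁) (hn₁ : E₁.IsNormalIn F p)
    (hT₂ : F.StronglyClosed T₂) (hc : CpsComm T₁ T₂) (hz₁ : T₁ ⊓ T₂ ≤ E₁.center)
    (α₁ : MulAut T₁) (hα₁ : α₁ ∈ E₁.autGroup T₁) (hcop : (orderOf α₁).Coprime p) :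
    ∃ (γ : MulAut ↥(T₁ ⊔ T₂)) (β : MulAut ↥((T₁ ⊔ T₂) ⊔ centralizerIn S (T₁ ⊔ T₂))),
      CseGood F (T₁ ⊔ T₂) (centralizerIn S (T₁ ⊔ T₂)) γ β ∧
        CpsExtcPair T₁ T₂ (T₁ ⊔ T₂) α₁ γ := by
  have hinv : E₁.IsInvariantIn F := hn₁.1.2.2
  have hT₁sc : F.StronglyClosed T₁ := hinv.2.1
  have hT₁S : T₁ ≤ S := hT₁sc.1
  have hT₂S : T₂ ≤ S := hT₂.1
  have hW₁S : T₁ ⊔ centralizerIn S T₁ ≤ S := sup_le hT₁S inf_le_left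
  have hTtS : T₁ ⊔ T₂ ≤ S := sup_le hT₁S hT₂S
  have hWS : (T₁ ⊔ T₂) ⊔ centralizerIn S (T₁ ⊔ T₂) ≤ S := sup_le hTtS inf_le_left
  have : Finite T₁ := Fusion.finite_of_le hT₁S
  have : Finite ↥(T₁ ⊔ T₂) := Fusion.finite_of_le hTtS
  have : Finite ↥(T₁ ⊔ centralizerIn S T₁) := Fusion.finite_of_le hW₁S
  have : Finite ↥((T₁ ⊔ T₂) ⊔ centralizerIn S (T₁ ⊔ T₂)) := Fusion.finite_of_le hWS
  -- the extension condition and the power trick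
  obtain ⟨β₀, hβ₀, hβ₀T, hβ₀C⟩ := hn₁.2 α₁ hα₁
  have hgood₀ : CseGood F T₁ (centralizerIn S T₁) α₁ β₀ := ⟨hβ₀, hβ₀T, hβ₀C⟩
  obtain ⟨k, hkcop, hkext⟩ := cop_exists_pprime_power
    (le_sup_left : T₁ ≤ T₁ ⊔ centralizerIn S T₁) p α₁ β₀ hβ₀T hcop
  have hgoodk := cse_good_pow F hgood₀ k
  have hαk : α₁ ^ k = α₁ := by
    ext x
    exact ((hgoodk.2.1 x).symm.trans (hkext x))
  rw [hαk] at hgoodk
  obtain ⟨δ, hδ⟩ : ∃ δ : MulAut ↥(T₁ ⊔ centralizerIn S T₁), δ = β₀ ^ k := ⟨_, rfl⟩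
  rw [← hδ] at hgoodk hkcop
  have hδmem := hgoodk.1
  have hT₂C : T₂ ≤ centralizerIn S T₁ := by
    intro y hy
    rw [cse_locA_mem_centralizerIn]
    exact ⟨hT₂S hy, fun u hu => hc u hu y hy⟩
  have hT₂W₁ : T₂ ≤ T₁ ⊔ centralizerIn S T₁ := hT₂C.trans le_sup_right
  -- `δ` fixes `T₁ ∩ T₂` pointwise
  have hδZ : ∀ z : ↥(T₁ ⊔ centralizerIn S T₁), (z : Ω) ∈ T₁ ⊓ T₂ → δ z = z := by
    intro z hz
    have hzT₁ : (z : Ω) ∈ T₁ := (Subgroup.mem_inf.mp hz).1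
    have h1 := hgoodk.2.1 ⟨(z : Ω), hzT₁⟩
    have hφ := (Fusion.mem_autGroup_iff E₁ le_rfl α₁).mp hα₁
    have h2 := cps_extc_fix E₁ hz₁ hφ ⟨(z : Ω), hzT₁⟩ hz
    have h3 : Subgroup.inclusion le_sup_left (⟨(z : Ω), hzT₁⟩ : T₁) = z := Subtype.ext rfl
    rw [h3] at h1
    apply Subtype.ext
    rw [h1]
    exact h2
  -- `δ` is the identity on `T₂`
  have hδT₂ : ∀ y : ↥(T₁ ⊔ centralizerIn S T₁), (y : Ω) ∈ T₂ → δ y = y := by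
    intro y hy
    refine cop_coprime_trivial p δ hkcop (T₂.subgroupOf (T₁ ⊔ centralizerIn S T₁))
      ((T₁ ⊓ T₂).subgroupOf (T₁ ⊔ centralizerIn S T₁)) ?_ ?_ ?_ y (Subgroup.mem_subgroupOf.mpr hy)
    · intro e _
      obtain ⟨j, hj⟩ := (IsPGroup.iff_orderOf.mp hS) ⟨(e : Ω), hW₁S e.2⟩
      refine ⟨j, ?_⟩
      rw [← hj, ← Subgroup.orderOf_coe, ← Subgroup.orderOf_coe]
    · intro d hd
      rw [Subgroup.mem_subgroupOf] at hd ⊢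
      have h1 := hgoodk.2.2 d (hT₂C hd)
      have h2 := Fusion.aut_mem_of_stronglyClosed F hW₁S hT₂ δ hδmem d hd
      exact Subgroup.mem_inf.mpr ⟨cseZ_le T₁ h1, T₂.mul_mem (T₂.inv_mem hd) h2⟩
    · intro z hz
      exact hδZ z (Subgroup.mem_subgroupOf.mp hz)
  -- `T C_S(T) ≤ T₁ C_S(T₁)`
  have hCle : centralizerIn S (T₁ ⊔ T₂) ≤ centralizerIn S T₁ := by
    intro c hcC
    rw [cse_locA_mem_centralizerIn] at hcC ⊢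
    exact ⟨hcC.1, fun u hu => hcC.2 u ((le_sup_left : T₁ ≤ T₁ ⊔ T₂) hu)⟩
  have hWW₁ : (T₁ ⊔ T₂) ⊔ centralizerIn S (T₁ ⊔ T₂) ≤ T₁ ⊔ centralizerIn S T₁ :=
    sup_le (sup_le le_sup_left hT₂W₁) (hCle.trans le_sup_right)
  have hδF := (Fusion.mem_autGroup_iff F hW₁S δ).mp hδmem
  have hψ := Fusion.restrict_mem F hδF hWW₁
  obtain ⟨ψ, hψdef⟩ : ∃ ψ : ↥((T₁ ⊔ T₂) ⊔ centralizerIn S (T₁ ⊔ T₂)) →* Ω,
      ψ = ((T₁ ⊔ centralizerIn S T₁).subtype.comp δ.toMonoidHom).comp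
        (Subgroup.inclusion hWW₁) := ⟨_, rfl⟩
  rw [← hψdef] at hψ
  have hψx : ∀ x : ↥((T₁ ⊔ T₂) ⊔ centralizerIn S (T₁ ⊔ T₂)),
      ψ x = ((δ (Subgroup.inclusion hWW₁ x) : ↥(T₁ ⊔ centralizerIn S T₁)) : Ω) := by
    intro x
    rw [hψdef]
    rfl
  -- the restriction to `T₁ T₂`
  have hψ' := Fusion.restrict_mem F hψ
    (le_sup_left : T₁ ⊔ T₂ ≤ (T₁ ⊔ T₂) ⊔ centralizerIn S (T₁ ⊔ T₂))
  obtain ⟨ψ', hψ'def⟩ : ∃ ψ' : ↥(T₁ ⊔ T₂) →* Ω,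
      ψ' = ψ.comp (Subgroup.inclusion
        (le_sup_left : T₁ ⊔ T₂ ≤ (T₁ ⊔ T₂) ⊔ centralizerIn S (T₁ ⊔ T₂))) := ⟨_, rfl⟩
  rw [← hψ'def] at hψ'
  have hψ'x : ∀ x : ↥(T₁ ⊔ T₂), ψ' x = ψ (Subgroup.inclusion le_sup_left x) := by
    intro x
    rw [hψ'def]
    rfl
  have hψ'T₁ : ∀ x : T₁, ψ' (Subgroup.inclusion le_sup_left x) = ((α₁ x : T₁) : Ω) := by
    intro x
    rw [hψ'x, hψx, ← hgoodk.2.1 x]
    rfl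
  have hψ'T₂ : ∀ y : T₂, ψ' (Subgroup.inclusion le_sup_right y) = (y : Ω) := by
    intro y
    rw [hψ'x, hψx]
    have h1 := hδT₂ ⟨(y : Ω), hT₂W₁ y.2⟩ y.2
    have h2 : Subgroup.inclusion hWW₁ (Subgroup.inclusion le_sup_left
        (Subgroup.inclusion (le_sup_right : T₂ ≤ T₁ ⊔ T₂) y)) = ⟨(y : Ω), hT₂W₁ y.2⟩ := rfl
    rw [h2, h1]
  have hψ'Tt : ∀ x : ↥(T₁ ⊔ T₂), ψ' x ∈ T₁ ⊔ T₂ := by
    apply Fusion.sup_map_mem ψ'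
    · intro x
      rw [hψ'T₁]
      exact (le_sup_left : T₁ ≤ T₁ ⊔ T₂) (α₁ x).2
    · intro y
      rw [hψ'T₂]
      exact (le_sup_right : T₂ ≤ T₁ ⊔ T₂) y.2
  have hψW : ∀ x : ↥((T₁ ⊔ T₂) ⊔ centralizerIn S (T₁ ⊔ T₂)),
      ψ x ∈ (T₁ ⊔ T₂) ⊔ centralizerIn S (T₁ ⊔ T₂) := by
    apply Fusion.sup_map_mem ψ
    · intro x
      rw [← hψ'x]
      exact (le_sup_left : T₁ ⊔ T₂ ≤ _) (hψ'Tt x)
    · intro c
      rw [hψx]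
      have h1 := hgoodk.2.2 (Subgroup.inclusion hWW₁ (Subgroup.inclusion le_sup_right c))
        (hCle c.2)
      have h2 : ((δ (Subgroup.inclusion hWW₁ (Subgroup.inclusion le_sup_right c)) :
          ↥(T₁ ⊔ centralizerIn S T₁)) : Ω) = (c : Ω) * ((c : Ω)⁻¹ *
            ((δ (Subgroup.inclusion hWW₁ (Subgroup.inclusion le_sup_right c)) :
              ↥(T₁ ⊔ centralizerIn S T₁)) : Ω)) := by group
      rw [h2]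
      refine Subgroup.mul_mem _ ((le_sup_right : centralizerIn S (T₁ ⊔ T₂) ≤ _) c.2) ?_
      exact (le_sup_left : T₁ ⊔ T₂ ≤ _) ((le_sup_left : T₁ ≤ T₁ ⊔ T₂) (cseZ_le T₁ h1))
  obtain ⟨β, hβ⟩ := exists_mulAut_of_injective ψ (F.injective_of_mem hψ) hψW
  obtain ⟨γ, hγ⟩ := exists_mulAut_of_injective ψ' (F.injective_of_mem hψ') hψ'Tt
  have hβmem : β ∈ F.autGroup ((T₁ ⊔ T₂) ⊔ centralizerIn S (T₁ ⊔ T₂)) := by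
    rw [Fusion.mem_autGroup_iff F hWS]
    convert hψ using 1
    ext z
    exact (hβ z).symm
  refine ⟨γ, β, ⟨hβmem, ?_, ?_⟩, ?_, ?_⟩
  · intro u
    rw [← hβ, ← hγ, hψ'x]
  · intro c hcC
    rw [← hβ, hψx]
    exact cps_extc_cseZ_le hc (hgoodk.2.2 (Subgroup.inclusion hWW₁ c) (hCle hcC))
  · intro x hx hx'
    rw [← hγ]
    exact hψ'T₁ ⟨x, hx⟩
  · intro x hx hx'
    rw [← hγ]
    exact hψ'T₂ ⟨x, hx⟩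

/-- Every `α₁ ∈ Aut_{E₁}(T₁)` has a lift to `T C_S(T)`, `T = T₁T₂`, which is the identity on `T₂` and satisfies
the extension condition. -/
theorem cps_extc_lift [Finite S] (p : ℕ) [Fact p.Prime] (hS : IsPGroup p S) (F : FusionSystem S)
    {T₁ T₂ : Subgroup Ω} (E₁ : FusionSystem T₁) (hn₁ : E₁.IsNormalIn F p)
    (hT₂ : F.StronglyClosed T₂) (hc : CpsComm T₁ T₂) (hz₁ : T₁ ⊓ T₂ ≤ E₁.center)
    (Tt : Subgroup Ω) (hTt : Tt = T₁ ⊔ T₂) (α₁ : MulAut T₁) (hα₁ : α₁ ∈ E₁.autGroup T₁) :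
    ∃ (γ : MulAut Tt) (β : MulAut ↥(Tt ⊔ centralizerIn S Tt)),
      CseGood F Tt (centralizerIn S Tt) γ β ∧ CpsExtcPair T₁ T₂ Tt α₁ γ := by
  subst hTt
  have hT₁S : T₁ ≤ S := hn₁.1.2.2.2.1.1
  have hT₂S : T₂ ≤ S := hT₂.1
  have : Finite T₁ := Fusion.finite_of_le hT₁S
  have : Finite (MulAut T₁) := inferInstance
  obtain ⟨k, l, e, hk, hl, hkl⟩ := cse_locA_exists_parts p α₁
  have hαl : α₁ ^ l ∈ autInducedBy T₁ T₁ :=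
    cop_base_mem_inn p hT₁S (hS.to_le hT₁S) E₁ hn₁.1.1 _ (Subgroup.pow_mem _ hα₁ l) e hl
  obtain ⟨γk, βk, hgk, hpk⟩ := cps_extc_lift_pprime p hS F E₁ hn₁ hT₂ hc hz₁ (α₁ ^ k)
    (Subgroup.pow_mem _ hα₁ k) hk
  obtain ⟨γl, βl, hgl, hpl⟩ := cps_extc_lift_inner F hT₁S hT₂S hc (α₁ ^ l) hαl
  refine ⟨γk * γl, βk * βl, cse_good_mul F hgk hgl, ?_⟩
  have h1 := cps_extc_pair_mul (le_sup_left : T₁ ≤ T₁ ⊔ T₂) hpk hpl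
  rwa [hkl] at h1

/-- C9: the extension condition of `IsNormalIn` for `D`. -/
theorem cps_extCond [Finite S] (p : ℕ) [Fact p.Prime] {F : FusionSystem S} {T₁ T₂ : Subgroup Ω}
    {E₁ : FusionSystem T₁} {E₂ : FusionSystem T₂} (h : Setup p F E₁ E₂)
    (D : FusionSystem (T₁ ⊔ T₂)) (hD : CpsMaps E₁ E₂ D) :
    ∀ α ∈ D.autGroup (T₁ ⊔ T₂), ∃ β ∈ F.autGroup ((T₁ ⊔ T₂) ⊔ centralizerIn S (T₁ ⊔ T₂)),
      (∀ x : ↥(T₁ ⊔ T₂), ((β (Subgroup.inclusion le_sup_left x) :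
        ↥((T₁ ⊔ T₂) ⊔ centralizerIn S (T₁ ⊔ T₂))) : Ω) = ((α x : ↥(T₁ ⊔ T₂)) : Ω)) ∧
      ∀ c : ↥((T₁ ⊔ T₂) ⊔ centralizerIn S (T₁ ⊔ T₂)), (c : Ω) ∈ centralizerIn S (T₁ ⊔ T₂) →
        (c : Ω)⁻¹ * ((β c : ↥((T₁ ⊔ T₂) ⊔ centralizerIn S (T₁ ⊔ T₂))) : Ω) ∈
          (T₁ ⊔ T₂) ⊓ Subgroup.centralizer ((T₁ ⊔ T₂ : Subgroup Ω) : Set Ω) := by
  intro α hα
  have hT₁sc : F.StronglyClosed T₁ := h.n₁.1.2.2.2.1
  have hT₂sc : F.StronglyClosed T₂ := h.n₂.1.2.2.2.1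
  have hT₁S : T₁ ≤ S := hT₁sc.1
  have hT₂S : T₂ ≤ S := hT₂sc.1
  have : Finite T₁ := Fusion.finite_of_le hT₁S
  have : Finite T₂ := Fusion.finite_of_le hT₂S
  have hφ := (Fusion.mem_autGroup_iff D le_rfl α).mp hα
  obtain ⟨-, φ₁, hφ₁, φ₂, hφ₂, hprod⟩ := (hD _ _).mp hφ
  have hproj₁ : cpsProj T₁ T₂ (T₁ ⊔ T₂) = T₁ := cpsProj_top
  have hproj₂ : cpsProj T₂ T₁ (T₁ ⊔ T₂) = T₂ :=
    inf_eq_left.mpr (le_sup_right.trans le_sup_left)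
  obtain ⟨φ₁', hφ₁', hφ₁eq⟩ := Fusion.exists_hom_of_eq E₁ hproj₁ hφ₁
  obtain ⟨φ₂', hφ₂', hφ₂eq⟩ := Fusion.exists_hom_of_eq E₂ hproj₂ hφ₂
  obtain ⟨α₁, hα₁⟩ := exists_mulAut_of_injective φ₁' (E₁.injective_of_mem hφ₁')
    (fun x => Fusion.map_mem E₁ hφ₁' x)
  obtain ⟨α₂, hα₂⟩ := exists_mulAut_of_injective φ₂' (E₂.injective_of_mem hφ₂')
    (fun x => Fusion.map_mem E₂ hφ₂' x)
  have hα₁mem : α₁ ∈ E₁.autGroup T₁ := by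
    rw [Fusion.mem_autGroup_iff E₁ le_rfl]
    convert hφ₁' using 1
    ext z
    exact (hα₁ z).symm
  have hα₂mem : α₂ ∈ E₂.autGroup T₂ := by
    rw [Fusion.mem_autGroup_iff E₂ le_rfl]
    convert hφ₂' using 1
    ext z
    exact (hα₂ z).symm
  -- `α` on `T₁` and on `T₂`
  have hαT₁ : ∀ (x : Ω) (hx : x ∈ T₁) (hx' : x ∈ T₁ ⊔ T₂),
      ((α ⟨x, hx'⟩ : ↥(T₁ ⊔ T₂)) : Ω) = ((α₁ ⟨x, hx⟩ : T₁) : Ω) := by
    intro x hx hx'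
    have hx₁ : x ∈ cpsProj T₁ T₂ (T₁ ⊔ T₂) := by rw [hproj₁]; exact hx
    have h1₂ : (1 : Ω) ∈ cpsProj T₂ T₁ (T₁ ⊔ T₂) := Subgroup.one_mem _
    have hxm : x * 1 ∈ T₁ ⊔ T₂ := by rw [mul_one]; exact hx'
    have h1 := hprod x 1 hx₁ h1₂ hxm
    have h2 : φ₂ ⟨1, h1₂⟩ = 1 := map_one φ₂
    have h3 : (⟨x * 1, hxm⟩ : ↥(T₁ ⊔ T₂)) = ⟨x, hx'⟩ := Subtype.ext (mul_one x)
    rw [h3, h2, mul_one, ← hφ₁eq x hx₁ hx, hα₁] at h1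
    exact h1
  have hαT₂ : ∀ (y : Ω) (hy : y ∈ T₂) (hy' : y ∈ T₁ ⊔ T₂),
      ((α ⟨y, hy'⟩ : ↥(T₁ ⊔ T₂)) : Ω) = ((α₂ ⟨y, hy⟩ : T₂) : Ω) := by
    intro y hy hy'
    have hy₂ : y ∈ cpsProj T₂ T₁ (T₁ ⊔ T₂) := by rw [hproj₂]; exact hy
    have h1₁ : (1 : Ω) ∈ cpsProj T₁ T₂ (T₁ ⊔ T₂) := Subgroup.one_mem _
    have hym : 1 * y ∈ T₁ ⊔ T₂ := by rw [one_mul]; exact hy'
    have h1 := hprod 1 y h1₁ hy₂ hym
    have h2 : φ₁ ⟨1, h1₁⟩ = 1 := map_one φ₁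
    have h3 : (⟨1 * y, hym⟩ : ↥(T₁ ⊔ T₂)) = ⟨y, hy'⟩ := Subtype.ext (one_mul y)
    rw [h3, h2, one_mul, ← hφ₂eq y hy₂ hy, hα₂] at h1
    exact h1
  -- the two lifts
  obtain ⟨γ₁, β₁, hg₁, hp₁⟩ := cps_extc_lift p h.hS F E₁ h.n₁ hT₂sc h.comm h.z₁ (T₁ ⊔ T₂) rfl
    α₁ hα₁mem
  obtain ⟨γ₂, β₂, hg₂, hp₂⟩ := cps_extc_lift p h.hS F E₂ h.n₂ hT₁sc (cpsComm_symm h.comm)
    (by rw [inf_comm]; exact h.z₂) (T₁ ⊔ T₂) (sup_comm T₁ T₂) α₂ hα₂mem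
  have hαeq : α = γ₁ * γ₂ := by
    have h1 : α.toMonoidHom = (γ₁ * γ₂).toMonoidHom := by
      apply Fusion.sup_hom_ext
      · intro x
        apply Subtype.ext
        show ((α (Subgroup.inclusion le_sup_left x) : ↥(T₁ ⊔ T₂)) : Ω) =
          ((γ₁ (γ₂ (Subgroup.inclusion le_sup_left x)) : ↥(T₁ ⊔ T₂)) : Ω)
        have h2 : γ₂ (Subgroup.inclusion le_sup_left x) = Subgroup.inclusion le_sup_left x :=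
          Subtype.ext (hp₂.2 (x : Ω) x.2 _)
        rw [h2]
        exact (hαT₁ (x : Ω) x.2 _).trans (hp₁.1 (x : Ω) x.2 _).symm
      · intro y
        apply Subtype.ext
        show ((α (Subgroup.inclusion le_sup_right y) : ↥(T₁ ⊔ T₂)) : Ω) =
          ((γ₁ (γ₂ (Subgroup.inclusion le_sup_right y)) : ↥(T₁ ⊔ T₂)) : Ω)
        have h2 : γ₂ (Subgroup.inclusion le_sup_right y) =
            ⟨((α₂ y : T₂) : Ω), (le_sup_right : T₂ ≤ T₁ ⊔ T₂) (α₂ y).2⟩ :=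
          Subtype.ext (hp₂.1 (y : Ω) y.2 _)
        rw [h2, hp₁.2 _ (α₂ y).2 _]
        exact hαT₂ (y : Ω) y.2 _
    ext z
    exact congrArg (fun f : ↥(T₁ ⊔ T₂) →* ↥(T₁ ⊔ T₂) => ((f z : ↥(T₁ ⊔ T₂)) : Ω)) h1
  have hg := cse_good_mul F hg₁ hg₂
  rw [← hαeq] at hg
  exact ⟨β₁ * β₂, hg.1, hg.2.1, hg.2.2⟩

end Cfsg.Agent.CPS
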