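import Mathlib
import Cfsg.Prelude.Def_FusionComponents
import Cfsg.Agent.Lead.FusionStrongInvD
import Cfsg.Agent.Lead.FusionConj
import Cfsg.Agent.CPS.Hull
import Cfsg.Agent.CPS.Ext
import Cfsg.Agent.CPS.Maps

set_option autoImplicit false

/-!
# S5138 (central products), piece P5 (C8): `D` is strongly invariant in `F`

`P ≤ Q ≤ T = T₁T₂`, `φ = (φ₁ * φ₂)|P` a map of `D` with `φ(P) ≤ Q`, `ψ ∈ Hom_F(Q, T)`.  By `cps_ext`, `ψ`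
extends to `ψ'` on the hull `H` of `Q`; `ψ'_i := ψ'|proj_i Q`.  `φ_i` maps `proj_i P` into `proj_i Q`, and
`E_i` is strongly invariant in `F`: `χ_i := ψ'_i φ_i ψ'_i⁻¹ ∈ E_i` on `ψ'(proj_i P) = proj_i ψ(P)`
(`cps_map_proj`).  Then `ψ φ ψ⁻¹ = (χ₁ * χ₂)|ψ(P)` is a map of `D`.
-/

namespace Cfsg.Agent.CPS

open Cfsg Cfsg.FusionSystem Cfsg.Agent.Lead Cfsg.Agent.Lead.StrongInv

variable {Ω : Type*} [Group Ω] {S : Subgroup Ω}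

theorem cps_inv_mem_map {Q K : Subgroup Ω} (ψ : Q →* Ω) (z : Ω) :
    z ∈ (K.subgroupOf Q).map ψ ↔ ∃ (k : Ω) (_ : k ∈ K) (hkQ : k ∈ Q), ψ ⟨k, hkQ⟩ = z := by
  constructor
  · rintro ⟨x, hx, rfl⟩
    exact ⟨x.1, Subgroup.mem_subgroupOf.mp hx, x.2, rfl⟩
  · rintro ⟨k, hk, hkQ, rfl⟩
    exact ⟨⟨k, hkQ⟩, Subgroup.mem_subgroupOf.mpr hk, rfl⟩

/-- C8: `D` is strongly invariant in `F`. -/
theorem cps_SI [Finite S] (p : ℕ) [Fact p.Prime] {F : FusionSystem S} {T₁ T₂ : Subgroup Ω}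
    {E₁ : FusionSystem T₁} {E₂ : FusionSystem T₂} (h : Setup p F E₁ E₂)
    (D : FusionSystem (T₁ ⊔ T₂)) (hD : CpsMaps E₁ E₂ D) : Cfsg.Agent.Lead.StrongInv.SI F D := by
  have hc : CpsComm T₁ T₂ := h.comm
  have hc' : CpsComm T₂ T₁ := cpsComm_symm hc
  have hsc₁ : F.StronglyClosed T₁ := h.n₁.1.2.2.2.1
  have hsc₂ : F.StronglyClosed T₂ := h.n₂.1.2.2.2.1
  have hSI₁ : SI F E₁ := SI_of_invariant F E₁ h.n₁.1.2.2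
  have hSI₂ : SI F E₂ := SI_of_invariant F E₂ h.n₂.1.2.2
  have hcomm21 : T₂ ⊔ T₁ = T₁ ⊔ T₂ := sup_comm _ _
  intro P Q hPQ hQT φ hφ hφQ ψ hψ
  have hQT' : Q ≤ T₂ ⊔ T₁ := hcomm21 ▸ hQT
  -- the extension of `ψ` to the hull of `Q`
  obtain ⟨ψ', hψ', hψ'ext, hψ'range⟩ := cps_ext p h.hS F h.sat hsc₁ hsc₂ hc hQT hψ
  have hQH : Q ≤ cpsHull T₁ T₂ Q := le_cpsHull hc hQT
  have hHT : cpsHull T₁ T₂ Q ≤ T₁ ⊔ T₂ := cpsHull_le T₁ T₂ Q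
  have hHc : cpsHull T₁ T₂ (cpsHull T₁ T₂ Q) = cpsHull T₁ T₂ Q := cpsHull_idem hc hQT
  have hPH : P ≤ cpsHull T₁ T₂ Q := hPQ.trans hQH
  have hψ'inj : Function.Injective ψ' := F.injective_of_mem hψ'
  -- the decomposition of `φ`
  obtain ⟨hPT, φ₁, hφ₁, φ₂, hφ₂, hφprod⟩ := (hD P φ).mp hφ
  have hPT' : P ≤ T₂ ⊔ T₁ := hcomm21 ▸ hPT
  have hQ₁H : cpsProj T₁ T₂ Q ≤ cpsHull T₁ T₂ Q := le_sup_left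
  have hQ₂H : cpsProj T₂ T₁ Q ≤ cpsHull T₁ T₂ Q := le_sup_right
  have hP₁Q₁ : cpsProj T₁ T₂ P ≤ cpsProj T₁ T₂ Q := cpsProj_mono hPQ
  have hP₂Q₂ : cpsProj T₂ T₁ P ≤ cpsProj T₂ T₁ Q := cpsProj_mono hPQ
  -- `φ_i` maps `proj_i P` into `proj_i Q`
  have hφ₁T : ∀ x : ↥(cpsProj T₁ T₂ P), φ₁ x ∈ T₁ := (E₁.le_of_mem hφ₁).2
  have hφ₂T : ∀ x : ↥(cpsProj T₂ T₁ P), φ₂ x ∈ T₂ := (E₂.le_of_mem hφ₂).2
  have hφ₁Q : ∀ x : ↥(cpsProj T₁ T₂ P), φ₁ x ∈ cpsProj T₁ T₂ Q := by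
    intro x
    obtain ⟨hx₁, y, hy, hxy⟩ := (mem_cpsProj hc hPT).mp x.2
    have hy₂ : y ∈ cpsProj T₂ T₁ P := by
      refine (mem_cpsProj hc' hPT').mpr ⟨hy, x.1, hx₁, ?_⟩
      rw [← hc x.1 hx₁ y hy]
      exact hxy
    have h1 := hφprod x.1 y x.2 hy₂ hxy
    refine (mem_cpsProj hc hQT).mpr ⟨hφ₁T x, φ₂ ⟨y, hy₂⟩, hφ₂T _, ?_⟩
    have h2 : φ₁ x * φ₂ ⟨y, hy₂⟩ = φ ⟨x.1 * y, hxy⟩ := h1.symm
    rw [h2]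
    exact hφQ _
  have hφ₂Q : ∀ x : ↥(cpsProj T₂ T₁ P), φ₂ x ∈ cpsProj T₂ T₁ Q := by
    intro x
    obtain ⟨hx₂, y, hy, hxy⟩ := (mem_cpsProj hc' hPT').mp x.2
    have hyx : y * x.1 ∈ P := by
      rw [hc y hy x.1 hx₂]
      exact hxy
    have hy₁ : y ∈ cpsProj T₁ T₂ P := (mem_cpsProj hc hPT).mpr ⟨hy, x.1, hx₂, hyx⟩
    have h1 := hφprod y x.1 hy₁ x.2 hyx
    refine (mem_cpsProj hc' hQT').mpr ⟨hφ₂T x, φ₁ ⟨y, hy₁⟩, hφ₁T _, ?_⟩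
    have h2 : φ₂ x * φ₁ ⟨y, hy₁⟩ = φ ⟨y * x.1, hyx⟩ := by
      rw [h1]
      exact (hc _ (hφ₁T _) _ (hφ₂T _)).symm
    rw [h2]
    exact hφQ _
  -- the restrictions of `ψ'` to the projections of `Q`
  have hψ'₁ := Fusion.restrict_mem F hψ' hQ₁H
  have hψ'₂ := Fusion.restrict_mem F hψ' hQ₂H
  obtain ⟨χ₁, hχ₁, hχ₁v⟩ := hSI₁ (cpsProj T₁ T₂ P) (cpsProj T₁ T₂ Q) hP₁Q₁ inf_le_left φ₁ hφ₁
    hφ₁Q _ hψ'₁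
  obtain ⟨χ₂, hχ₂, hχ₂v⟩ := hSI₂ (cpsProj T₂ T₁ P) (cpsProj T₂ T₁ Q) hP₂Q₂ inf_le_left φ₂ hφ₂
    hφ₂Q _ hψ'₂
  -- the image `P' = ψ(P)` and its projections
  have hmapeq : (P.subgroupOf (cpsHull T₁ T₂ Q)).map ψ' = (P.subgroupOf Q).map ψ := by
    ext z
    rw [cps_inv_mem_map, cps_inv_mem_map]
    constructor
    · rintro ⟨k, hk, hkH, rfl⟩
      exact ⟨k, hk, hPQ hk, (hψ'ext k (hPQ hk) hkH).symm⟩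
    · rintro ⟨k, hk, hkQ, rfl⟩
      exact ⟨k, hk, hQH hkQ, hψ'ext k hkQ (hQH hkQ)⟩
  have hproj₁ : (((cpsProj T₁ T₂ P).subgroupOf (cpsProj T₁ T₂ Q)).map
      (ψ'.comp (Subgroup.inclusion hQ₁H))) = cpsProj T₁ T₂ ((P.subgroupOf Q).map ψ) := by
    rw [← hmapeq, cps_map_proj F hsc₁ hsc₂ hc hHT hHc hPH hψ']
    ext z
    rw [cps_inv_mem_map, cps_inv_mem_map]
    constructor
    · rintro ⟨k, hk, hkQ₁, rfl⟩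
      exact ⟨k, hk, hQ₁H hkQ₁, rfl⟩
    · rintro ⟨k, hk, hkH, rfl⟩
      exact ⟨k, hk, hP₁Q₁ hk, rfl⟩
  have hmapeq' : (P.subgroupOf (cpsHull T₁ T₂ Q)).map ψ' = (P.subgroupOf Q).map ψ := hmapeq
  have hHT' : cpsHull T₁ T₂ Q ≤ T₂ ⊔ T₁ := hcomm21 ▸ hHT
  have hhull21 : cpsHull T₂ T₁ (cpsHull T₁ T₂ Q) = cpsHull T₁ T₂ Q := by
    have : ∀ K : Subgroup Ω, cpsHull T₂ T₁ K = cpsHull T₁ T₂ K := fun K => sup_comm _ _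
    rw [this]
    exact hHc
  have hproj₂ : (((cpsProj T₂ T₁ P).subgroupOf (cpsProj T₂ T₁ Q)).map
      (ψ'.comp (Subgroup.inclusion hQ₂H))) = cpsProj T₂ T₁ ((P.subgroupOf Q).map ψ) := by
    rw [← hmapeq, cps_map_proj F hsc₂ hsc₁ hc' hHT' hhull21 hPH hψ']
    ext z
    rw [cps_inv_mem_map, cps_inv_mem_map]
    constructor
    · rintro ⟨k, hk, hkQ₂, rfl⟩
      exact ⟨k, hk, hQ₂H hkQ₂, rfl⟩
    · rintro ⟨k, hk, hkH, rfl⟩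
      exact ⟨k, hk, hP₂Q₂ hk, rfl⟩
  obtain ⟨χ₁', hχ₁', hχ₁'v⟩ := Fusion.exists_hom_of_eq E₁ hproj₁ hχ₁
  obtain ⟨χ₂', hχ₂', hχ₂'v⟩ := Fusion.exists_hom_of_eq E₂ hproj₂ hχ₂
  -- the conjugate map `χ = ψ φ ψ⁻¹` on `P'`
  have hres := Fusion.restrict_mem F hψ hPQ
  have hrange : (ψ.comp (Subgroup.inclusion hPQ)).range = (P.subgroupOf Q).map ψ := by
    ext z
    rw [cps_inv_mem_map]
    constructor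
    · rintro ⟨x, rfl⟩
      exact ⟨x.1, x.2, hPQ x.2, rfl⟩
    · rintro ⟨k, hk, hkQ, rfl⟩
      exact ⟨⟨k, hk⟩, rfl⟩
  set e := Fusion.equivOfRange (ψ.comp (Subgroup.inclusion hPQ)) (F.injective_of_mem hres) hrange
    with hedef
  have he : ∀ x : P, ((e x : ↥((P.subgroupOf Q).map ψ)) : Ω) = ψ (Subgroup.inclusion hPQ x) :=
    fun x => rfl
  refine ⟨(ψ.comp (φ.codRestrict Q hφQ)).comp e.symm.toMonoidHom, ?_, ?_⟩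
  · -- membership in `D`
    rw [hD]
    refine ⟨?_, χ₁', hχ₁', χ₂', hχ₂', ?_⟩
    · -- `P' ≤ T`
      intro z hz
      obtain ⟨k, hk, hkQ, rfl⟩ := (cps_inv_mem_map ψ z).mp hz
      have h1 : ψ ⟨k, hkQ⟩ ∈ ψ'.range := ⟨⟨k, hQH hkQ⟩, hψ'ext k hkQ (hQH hkQ)⟩
      rw [hψ'range] at h1
      exact cpsHull_le T₁ T₂ _ h1
    · intro x₁' x₂' hx₁' hx₂' hx
      -- preimages
      have hx₁'' := hx₁'
      rw [← hproj₁] at hx₁''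
      obtain ⟨x₁, hx₁P, hx₁Q, hx₁e⟩ := (cps_inv_mem_map _ x₁').mp hx₁''
      have hx₂'' := hx₂'
      rw [← hproj₂] at hx₂''
      obtain ⟨x₂, hx₂P, hx₂Q, hx₂e⟩ := (cps_inv_mem_map _ x₂').mp hx₂''
      obtain ⟨u, huP, huQ, hue⟩ := (cps_inv_mem_map ψ (x₁' * x₂')).mp hx
      have hx₁H : x₁ ∈ cpsHull T₁ T₂ Q := hQ₁H hx₁Q
      have hx₂H : x₂ ∈ cpsHull T₁ T₂ Q := hQ₂H hx₂Q
      have h1e : ψ' ⟨x₁, hx₁H⟩ = x₁' := hx₁e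
      have h2e : ψ' ⟨x₂, hx₂H⟩ = x₂' := hx₂e
      have hu : x₁ * x₂ = u := by
        have h3 : ψ' (⟨x₁, hx₁H⟩ * ⟨x₂, hx₂H⟩) = ψ' ⟨u, hQH huQ⟩ := by
          rw [map_mul, h1e, h2e, hψ'ext u huQ (hQH huQ), hue]
        exact congrArg Subtype.val (hψ'inj h3)
      have hx₁x₂P : x₁ * x₂ ∈ P := hu ▸ huP
      -- the value of `χ`
      have hesymm : e.symm ⟨x₁' * x₂', hx⟩ = ⟨x₁ * x₂, hx₁x₂P⟩ := by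
        apply e.injective
        rw [MulEquiv.apply_symm_apply]
        apply Subtype.ext
        rw [he]
        show x₁' * x₂' = ψ ⟨x₁ * x₂, hPQ hx₁x₂P⟩
        rw [← hue]
        exact app_congr ψ huQ (hPQ hx₁x₂P) hu.symm
      show ψ ⟨φ (e.symm ⟨x₁' * x₂', hx⟩), hφQ _⟩ = χ₁' ⟨x₁', hx₁'⟩ * χ₂' ⟨x₂', hx₂'⟩
      have hφval : φ (e.symm ⟨x₁' * x₂', hx⟩) = φ₁ ⟨x₁, hx₁P⟩ * φ₂ ⟨x₂, hx₂P⟩ := by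
        rw [hesymm]
        exact hφprod x₁ x₂ hx₁P hx₂P hx₁x₂P
      have hm₁ : φ₁ ⟨x₁, hx₁P⟩ ∈ cpsHull T₁ T₂ Q := hQ₁H (hφ₁Q _)
      have hm₂ : φ₂ ⟨x₂, hx₂P⟩ ∈ cpsHull T₁ T₂ Q := hQ₂H (hφ₂Q _)
      have hstep1 : ψ ⟨φ (e.symm ⟨x₁' * x₂', hx⟩), hφQ _⟩ =
          ψ' ⟨φ₁ ⟨x₁, hx₁P⟩, hm₁⟩ * ψ' ⟨φ₂ ⟨x₂, hx₂P⟩, hm₂⟩ := by
        rw [← map_mul, ← hψ'ext _ (hφQ _) (hQH (hφQ _))]
        exact app_congr ψ' _ _ hφval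
      rw [hstep1]
      -- use the two strong invariance identities
      have hmem₁ : (ψ'.comp (Subgroup.inclusion hQ₁H)) (Subgroup.inclusion hP₁Q₁ ⟨x₁, hx₁P⟩) ∈
          ((cpsProj T₁ T₂ P).subgroupOf (cpsProj T₁ T₂ Q)).map (ψ'.comp (Subgroup.inclusion hQ₁H)) :=
        ⟨Subgroup.inclusion hP₁Q₁ ⟨x₁, hx₁P⟩, Subgroup.mem_subgroupOf.mpr hx₁P, rfl⟩
      have hmem₂ : (ψ'.comp (Subgroup.inclusion hQ₂H)) (Subgroup.inclusion hP₂Q₂ ⟨x₂, hx₂P⟩) ∈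
          ((cpsProj T₂ T₁ P).subgroupOf (cpsProj T₂ T₁ Q)).map (ψ'.comp (Subgroup.inclusion hQ₂H)) :=
        ⟨Subgroup.inclusion hP₂Q₂ ⟨x₂, hx₂P⟩, Subgroup.mem_subgroupOf.mpr hx₂P, rfl⟩
      have h₁ := hχ₁v ⟨x₁, hx₁P⟩ hmem₁
      have h₂ := hχ₂v ⟨x₂, hx₂P⟩ hmem₂
      have h₁' : χ₁' ⟨x₁', hx₁'⟩ = ψ' ⟨φ₁ ⟨x₁, hx₁P⟩, hm₁⟩ := by
        rw [hχ₁'v x₁' hx₁'' hx₁']
        refine Eq.trans ?_ h₁
        exact app_congr χ₁ _ _ hx₁e.symm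
      have h₂' : χ₂' ⟨x₂', hx₂'⟩ = ψ' ⟨φ₂ ⟨x₂, hx₂P⟩, hm₂⟩ := by
        rw [hχ₂'v x₂' hx₂'' hx₂']
        refine Eq.trans ?_ h₂
        exact app_congr χ₂ _ _ hx₂e.symm
      rw [h₁', h₂']
  · -- the conjugation identity
    intro x hx
    show ψ ⟨φ (e.symm ⟨ψ (Subgroup.inclusion hPQ x), hx⟩), hφQ _⟩ = ψ ⟨φ x, hφQ x⟩
    have h1 : e.symm ⟨ψ (Subgroup.inclusion hPQ x), hx⟩ = x := by
      apply e.injective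
      rw [MulEquiv.apply_symm_apply]
      exact Subtype.ext (he x).symm
    rw [h1]

end Cfsg.Agent.CPS
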