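import Mathlib
import Cfsg.Prelude.Def_FusionComponents
import Cfsg.Agent.Lead.Fusion
import Cfsg.Agent.Lead.FusionExt
import Cfsg.Agent.Lead.FusionWeak
import Cfsg.Agent.Lead.FusionSat2
import Cfsg.Agent.Lead.FusionRestrict
import Cfsg.Agent.Lead.FusionCenterFactor
import Cfsg.Agent.Lead.FusionKNorm6
import Cfsg.Agent.Helper2.PPrimeResC
import Cfsg.Agent.S5097
import Cfsg.Agent.CSE.LocalA
import Cfsg.Agent.COP.Basic
import Cfsg.Agent.S5141

/-!
# S5138 (CPS), piece P7: the `p'`-residual centralizes an abelian strongly closed central subgroup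

`G1`–`G4` of notes/S5138_helper8.md: for `E` normal in `F` over `T` and `Z₀ ≤ Z(T)` strongly closed in `F`,
the `p'`-residual `O` of `E` is normal in `F` (S5141) and `Z₀ ≤ Z(O)`:
`Z₀` is normal in `E` and in `O` (abelian + strongly closed), `Aut_E(Z₀)` is a `p'`-group, so the centralizer
system of `Z₀` in `E` has index prime to `p`, hence contains `O`.
-/

set_option autoImplicit false

namespace Cfsg.Agent.CPS

open Cfsg Cfsg.FusionSystem Cfsg.Agent.Lead

variable {Ω : Type*} [Group Ω] {S : Subgroup Ω}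

/-- Transport of a fusion system along an equality of the underlying subgroups. -/
theorem cps_pp_cast {S S' : Subgroup Ω} (h : S' = S) (D : FusionSystem S') (p : ℕ) :
    ∃ D' : FusionSystem S, (∀ P : Subgroup Ω, D'.Hom P = D.Hom P) ∧
      (D.IsSaturated p → D'.IsSaturated p) := by
  subst h
  exact ⟨D, fun _ => rfl, id⟩

/-- Powers of compatible automorphisms of `P ≤ Q` are compatible. -/
theorem cps_pp_pow_incl {P Q : Subgroup Ω} (hPQ : P ≤ Q) (α : MulAut P) (β : MulAut Q)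
    (hext : ∀ x : P, ((β (Subgroup.inclusion hPQ x) : Q) : Ω) = ((α x : P) : Ω)) (n : ℕ) (x : P) :
    (((β ^ n) (Subgroup.inclusion hPQ x) : Q) : Ω) = (((α ^ n) x : P) : Ω) := by
  induction n generalizing x with
  | zero => simp
  | succ n ih =>
    rw [pow_succ, pow_succ, MulAut.mul_apply, MulAut.mul_apply]
    have e : β (Subgroup.inclusion hPQ x) = Subgroup.inclusion hPQ (α x) := Subtype.ext (hext x)
    rw [e, ih]

/-- The power trick for `p`-elements: an extension `β` of an automorphism `α` of `p`-power order has a power of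
`p`-power order that still extends `α`. -/
theorem cps_pp_exists_p_power {P Q : Subgroup Ω} [Finite Q] (hPQ : P ≤ Q) (p : ℕ) [Fact p.Prime]
    (α : MulAut P) (β : MulAut Q)
    (hext : ∀ x : P, ((β (Subgroup.inclusion hPQ x) : Q) : Ω) = ((α x : P) : Ω))
    (j : ℕ) (hα : orderOf α = p ^ j) :
    ∃ l e : ℕ, (β ^ l) ^ p ^ e = 1 ∧
      ∀ x : P, (((β ^ l) (Subgroup.inclusion hPQ x) : Q) : Ω) = ((α x : P) : Ω) := by
  have hp : p.Prime := Fact.out
  have : Finite (MulAut Q) := inferInstance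
  have hone : ∀ n : ℕ, β ^ n = 1 → α ^ n = 1 := by
    intro n hn
    ext x
    have := cps_pp_pow_incl hPQ α β hext n x
    rw [hn] at this
    simpa using this.symm
  obtain ⟨k, l, e, hk, hl, hkl⟩ := Cfsg.Agent.CSE.cse_locA_exists_parts p β
  -- `α ^ k = 1`: its order divides the `p'`-number `orderOf (β ^ k)` and the `p`-power `orderOf α`
  have hαk : α ^ k = 1 := by
    have h1 : (α ^ k) ^ orderOf (β ^ k) = 1 := by
      rw [← pow_mul]
      apply hone
      rw [pow_mul]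
      exact pow_orderOf_eq_one _
    have h2 : orderOf (α ^ k) ∣ orderOf (β ^ k) := orderOf_dvd_of_pow_eq_one h1
    have h3 : orderOf (α ^ k) ∣ p ^ j := by
      rw [← hα]
      exact orderOf_pow_dvd k
    have h4 : (orderOf (α ^ k)).Coprime (p ^ j) :=
      Nat.Coprime.pow_right j (Nat.Coprime.coprime_dvd_left h2 hk)
    have h5 : orderOf (α ^ k) = 1 := Nat.Coprime.eq_one_of_dvd h4 h3
    exact orderOf_eq_one_iff.mp h5
  have hαl : α ^ l = α := by
    have h1 : ∀ x : P, (((α ^ (k + l)) x : P) : Ω) = ((α x : P) : Ω) := by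
      intro x
      rw [← cps_pp_pow_incl hPQ α β hext (k + l) x, pow_add, hkl, hext x]
    have h2 : α ^ (k + l) = α := by
      ext x
      exact h1 x
    rw [pow_add, hαk, one_mul] at h2
    exact h2
  refine ⟨l, e, hl, fun x => ?_⟩
  rw [cps_pp_pow_incl hPQ α β hext l x, hαl]

/-- An abelian strongly closed subgroup of a saturated system is normal in it. -/
theorem cps_pp_isNormal_of_central [Finite S] (p : ℕ) [Fact p.Prime] (hS : IsPGroup p S)
    (F : FusionSystem S) (hF : F.IsSaturated p) {Z₀ : Subgroup Ω} (hZ₀ : F.StronglyClosed Z₀)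
    (hZ₀c : Z₀ ≤ Subgroup.centralizer (S : Set Ω)) : F.IsNormal Z₀ := by
  apply Fusion.isNormal_of_abelian_quotient p hS F hF Z₀ ⊥ hZ₀ bot_le (Fusion.bot_isNormal F)
  · rw [Subgroup.commutator_le]
    intro a ha b hb
    have h1 := Subgroup.mem_centralizer_iff.mp (hZ₀c ha) b (hZ₀.1 hb)
    rw [Subgroup.mem_bot, commutatorElement_def]
    rw [← h1]
    group
  · intro g
    refine ⟨0, ?_⟩
    rw [pow_zero, pow_one]
    apply Subtype.ext
    ext x
    have h1 : ((x : (⊥ : Subgroup Ω)) : Ω) = 1 := Subgroup.mem_bot.mp x.2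
    have h2 : (((g : MulAut (⊥ : Subgroup Ω)) x : (⊥ : Subgroup Ω)) : Ω) = 1 :=
      Subgroup.mem_bot.mp ((g : MulAut (⊥ : Subgroup Ω)) x).2
    show (((g : MulAut (⊥ : Subgroup Ω)) x : (⊥ : Subgroup Ω)) : Ω) = ((x : (⊥ : Subgroup Ω)) : Ω)
    rw [h1, h2]

/-- `G2`: the automizer of a strongly closed subgroup of `Z(S)` has order prime to `p`. -/
theorem cps_pp_aut_coprime [Finite S] (p : ℕ) [Fact p.Prime] (hS : IsPGroup p S)
    (F : FusionSystem S) (hF : F.IsSaturated p) {Z₀ : Subgroup Ω} (hZ₀ : F.StronglyClosed Z₀)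
    (hZ₀c : Z₀ ≤ Subgroup.centralizer (S : Set Ω)) :
    (Nat.card ↥(F.autGroup Z₀)).Coprime p := by
  have hp : p.Prime := Fact.out
  have : Finite Z₀ := Fusion.finite_of_le hZ₀.1
  have : Finite (MulAut Z₀) := inferInstance
  have hfn := Fusion.fullyNormalized_of_weaklyClosed F (Fusion.weaklyClosed_of_stronglyClosed F hZ₀)
  obtain ⟨-, R, hR⟩ := (Fusion.fullyCentralized_fullyAutomized_of_fullyNormalized p hS F hF hfn).2
  have hbot : autInducedBy S Z₀ = ⊥ := by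
    rw [autInducedBy, Subgroup.closure_eq_bot_iff]
    rintro a ⟨g, hg, hga⟩
    rw [Set.mem_singleton_iff]
    ext x
    rw [hga x]
    have h1 := Subgroup.mem_centralizer_iff.mp (hZ₀c x.2) g hg
    show g * (x : Ω) * g⁻¹ = x
    rw [h1, mul_inv_cancel_right]
  have hRbot : (R : Subgroup ↥(F.autGroup Z₀)) = ⊥ := by
    rw [hR, hbot]
    ext y
    rw [Subgroup.mem_subgroupOf, Subgroup.mem_bot, Subgroup.mem_bot]
    exact ⟨fun h => Subtype.ext h, fun h => by rw [h]; rfl⟩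
  have hcard := Sylow.card_eq_multiplicity R
  have h1 : Nat.card (R : Subgroup ↥(F.autGroup Z₀)) = 1 := by
    rw [hRbot]
    exact Subgroup.card_bot
  have h2 : p ^ (Nat.card ↥(F.autGroup Z₀)).factorization p = 1 := by
    rw [← hcard]
    exact h1
  have h3 : (Nat.card ↥(F.autGroup Z₀)).factorization p = 0 := by
    by_contra hne
    have : 1 < p ^ (Nat.card ↥(F.autGroup Z₀)).factorization p :=
      Nat.one_lt_pow hne hp.one_lt
    omega
  have hpos : Nat.card ↥(F.autGroup Z₀) ≠ 0 := Nat.card_pos.ne'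
  rcases (Nat.factorization_eq_zero_iff _ p).mp h3 with h | h | h
  · exact absurd hp h
  · exact (Nat.Coprime.symm ((Nat.Prime.coprime_iff_not_dvd hp).mpr h))
  · exact absurd h hpos

/-- `G3`, the core: for `Z₀ ≤ Z(S)` strongly closed, a `p`-element of `Aut_F(P)` extends to `P ⊔ Z₀` fixing
`Z₀` pointwise. -/
theorem cps_pp_p_element_ext [Finite S] (p : ℕ) [Fact p.Prime] (hS : IsPGroup p S)
    (F : FusionSystem S) (hF : F.IsSaturated p) {Z₀ : Subgroup Ω} (hZ₀ : F.StronglyClosed Z₀)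
    (hZ₀c : Z₀ ≤ Subgroup.centralizer (S : Set Ω)) {P : Subgroup Ω} (hPS : P ≤ S) (α : MulAut P)
    (hα : α ∈ F.autGroup P) (j : ℕ) (hj : orderOf α = p ^ j) :
    ∃ ψ ∈ F.Hom (P ⊔ Z₀), (∀ x : P, ψ (Subgroup.inclusion le_sup_left x) = ((α x : P) : Ω)) ∧
      ∀ z : Z₀, ψ (Subgroup.inclusion le_sup_right z) = z := by
  have hp : p.Prime := Fact.out
  have hQS : P ⊔ Z₀ ≤ S := sup_le hPS hZ₀.1
  have : Finite ↥(P ⊔ Z₀) := Fusion.finite_of_le hQS
  have : Finite Z₀ := Fusion.finite_of_le hZ₀.1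
  have : Finite (MulAut Z₀) := inferInstance
  have hn : F.IsNormal Z₀ := cps_pp_isNormal_of_central p hS F hF hZ₀ hZ₀c
  have hφ := (Fusion.mem_autGroup_iff F hPS α).mp hα
  obtain ⟨ψ, hψ, hψP, -⟩ := hn.2 P _ hφ
  have hZval : ∀ {χ : ↥(P ⊔ Z₀) →* Ω}, χ ∈ F.Hom (P ⊔ Z₀) → ∀ z : Z₀,
      χ (Subgroup.inclusion le_sup_right z) ∈ Z₀ := by
    intro χ hχ z
    exact hZ₀.2 Z₀ le_rfl _ (Fusion.restrict_mem F hχ (le_sup_right : Z₀ ≤ P ⊔ Z₀)) z
  obtain ⟨β, hβ, hβv⟩ := Cfsg.Agent.COP.cop_aut_of_hom F α ψ hψ hψP (hZval hψ)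
  have hext : ∀ x : P, ((β (Subgroup.inclusion le_sup_left x) : ↥(P ⊔ Z₀)) : Ω) = ((α x : P) : Ω) := by
    intro x
    rw [hβv, hψP]
    rfl
  obtain ⟨l, e, hl, hlext⟩ := cps_pp_exists_p_power (le_sup_left : P ≤ P ⊔ Z₀) p α β hext j hj
  have hγ : β ^ l ∈ F.autGroup (P ⊔ Z₀) := Subgroup.pow_mem _ hβ l
  have hγh := (Fusion.mem_autGroup_iff F hQS (β ^ l)).mp hγ
  -- the restriction of `β ^ l` to `Z₀`
  have hρ := Fusion.restrict_mem F hγh (le_sup_right : Z₀ ≤ P ⊔ Z₀)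
  have hr := (Fusion.weaklyClosed_of_stronglyClosed F hZ₀).2 _ hρ
  obtain ⟨δ, hδ, hδv⟩ := Fusion.exists_aut_of_range_eq F hρ hr
  have hδext : ∀ z : Z₀, (((β ^ l) (Subgroup.inclusion le_sup_right z) : ↥(P ⊔ Z₀)) : Ω) =
      ((δ z : Z₀) : Ω) := by
    intro z
    rw [hδv z]
    rfl
  have hδpow : δ ^ p ^ e = 1 := by
    ext z
    have := cps_pp_pow_incl (le_sup_right : Z₀ ≤ P ⊔ Z₀) δ (β ^ l) hδext (p ^ e) z
    rw [hl] at this
    simpa using this.symm
  have hδ1 : δ = 1 := by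
    have h1 : orderOf δ ∣ p ^ e := orderOf_dvd_of_pow_eq_one hδpow
    have h2 : orderOf δ ∣ Nat.card ↥(F.autGroup Z₀) := by
      have : orderOf (⟨δ, hδ⟩ : ↥(F.autGroup Z₀)) = orderOf δ := Subgroup.orderOf_mk δ hδ
      rw [← this]
      exact orderOf_dvd_natCard _
    have h3 : (orderOf δ).Coprime (p ^ e) :=
      Nat.Coprime.pow_right e
        (Nat.Coprime.coprime_dvd_left h2 (cps_pp_aut_coprime p hS F hF hZ₀ hZ₀c))
    exact orderOf_eq_one_iff.mp (Nat.Coprime.eq_one_of_dvd h3 h1)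
  refine ⟨_, hγh, fun x => hlext x, fun z => ?_⟩
  show (((β ^ l) (Subgroup.inclusion le_sup_right z) : ↥(P ⊔ Z₀)) : Ω) = z
  rw [hδext z, hδ1]
  rfl

/-- G1–G4: a normal subsystem over the same `T` in which the abelian strongly closed `Z₀ ≤ Z(T)` is central:
the `p'`-residual of `E` (S5140, S5141; `O ⊆ C_E(Z₀)` by leastness). -/
theorem cps_pprime_central [Finite S] (p : ℕ) [Fact p.Prime] (hS : IsPGroup p S) (F : FusionSystem S)
    (hF : F.IsSaturated p) {T : Subgroup Ω} (E : FusionSystem T) (hE : E.IsNormalIn F p)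
    {Z₀ : Subgroup Ω} (hZ₀ : F.StronglyClosed Z₀) (hZ₀T : Z₀ ≤ T)
    (hZ₀c : Z₀ ≤ Subgroup.centralizer (T : Set Ω)) :
    ∃ O : FusionSystem T, O.IsNormalIn F p ∧ Z₀ ≤ O.center := by
  have hTS : T ≤ S := hE.1.2.2.2.1.1
  have hfinT : Finite T := Fusion.finite_of_le hTS
  have hTp : IsPGroup p T := hS.to_le hTS
  have hEs : E.IsSaturated p := hE.1.1
  have hEsub : E.IsSubsystemOf F := hE.1.2.2.1
  obtain ⟨O, hO⟩ := Cfsg.Agent.Helper2.PPrimeRes.exists_isPPrimeResidual p hTp E hEs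
  have hOn : O.IsNormalIn F p := Cfsg.Agent.S5141.result p hS F hF E hE.1 O hO
  refine ⟨O, hOn, ?_⟩
  -- `Z₀` is strongly closed in `E` and in `O`
  have hZ₀E : E.StronglyClosed Z₀ := ⟨hZ₀T, fun R hR φ hφ x => hZ₀.2 R hR φ (hEsub R hφ) x⟩
  have hOsubE : O.IsSubsystemOf E := hO.2.1.1
  have hZ₀O : O.StronglyClosed Z₀ := ⟨hZ₀T, fun R hR φ hφ x => hZ₀E.2 R hR φ (hOsubE R hφ) x⟩
  have hZ₀nO : O.IsNormal Z₀ := cps_pp_isNormal_of_central p hTp O hO.1 hZ₀O hZ₀c
  -- the centralizer system of `Z₀` in `E` lives over `T`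
  have hTZ : T ≤ Subgroup.centralizer (Z₀ : Set Ω) := Subgroup.le_centralizer_iff.mp hZ₀c
  have hcent : centralizerIn T Z₀ = T := inf_eq_left.mpr hTZ
  have hfc : E.IsFullyCentralized Z₀ := by
    refine ⟨hZ₀T, ?_⟩
    rintro Q ⟨φ, hφ, rfl⟩
    rw [(Fusion.weaklyClosed_of_stronglyClosed E hZ₀E).2 φ hφ]
  have : Finite ↥(centralizerIn T Z₀) := by rw [hcent]; exact hfinT
  have hCsat : (Cfsg.Agent.S5097.centSys E Z₀ hZ₀T).IsSaturated p :=
    Fusion.centralizerSystem_isSaturated p hTp E hEs Z₀ hfc _ (fun _ => rfl)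
  obtain ⟨D, hDhom, hDsat⟩ := cps_pp_cast hcent (Cfsg.Agent.S5097.centSys E Z₀ hZ₀T) p
  have hDsat' : D.IsSaturated p := hDsat hCsat
  have hDhom' : ∀ P : Subgroup Ω, D.Hom P = E.centralizerHom Z₀ P := fun P => hDhom P
  -- `G3`: index prime to `p`
  have hDidx : D.HasPrimeToPIndexIn E p := by
    refine ⟨fun P φ hφ => ?_, fun P hPT => ?_⟩
    · rw [hDhom'] at hφ
      exact hφ.1
    · rw [Subgroup.map_le_iff_le_comap, Subgroup.closure_le]
      rintro α ⟨k, hk⟩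
      show (α : MulAut P) ∈ D.autGroup P
      rw [Fusion.mem_autGroup_iff D hPT, hDhom']
      have hk' : orderOf (α : MulAut P) = p ^ k := by
        rw [Subgroup.orderOf_coe]
        exact hk
      obtain ⟨ψ, hψ, hψP, hψZ⟩ :=
        cps_pp_p_element_ext p hTp E hEs hZ₀E hZ₀c hPT (α : MulAut P) α.2 k hk'
      have hPc : P ≤ centralizerIn T Z₀ := by rw [hcent]; exact hPT
      refine ⟨(Fusion.mem_autGroup_iff E hPT (α : MulAut P)).mp α.2, hPc, fun x => ?_, ψ, hψ, hψP, hψZ⟩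
      exact hPc ((α : MulAut P) x).2
  -- `G4`: leastness
  have hOD : O.IsSubsystemOf D := hO.2.2 D hDsat' hDidx
  have hcentral : O.IsCentral Z₀ := by
    refine ⟨hZ₀T, fun P φ hφ => ?_⟩
    obtain ⟨ψ, hψ, hψP, -⟩ := hZ₀nO.2 P φ hφ
    refine ⟨ψ, hψ, hψP, fun z => ?_⟩
    have h1 := hOD _ hψ
    rw [hDhom'] at h1
    obtain ⟨-, -, -, ψ', -, hψ'P, hψ'Z⟩ := h1
    rw [← hψ'P (Subgroup.inclusion le_sup_right z), ← hψ'Z z]
    rfl
  exact le_sSup hcentral

end Cfsg.Agent.CPS
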