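import Mathlib
import Cfsg.Prelude.Def_FusionComponents
import Cfsg.Agent.Lead.FusionClosedProd
import Cfsg.Agent.Lead.FusionStrongInvD
import Cfsg.Agent.CPS.Hull
import Cfsg.Agent.CPS.Maps
import Cfsg.Agent.CPS.Cent
import Cfsg.Agent.CPS.Inv
import Cfsg.Agent.CPS.ExtCond
import Cfsg.Agent.CPS.PPrime

/-!
S5138 (project CPS, `notes/S5138_helper8.md`), piece P8 (helper8): assembly.

Theorem C (`cps_main`): in the central case the central product system is normal in `F`.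
`cps_normal_exists`: in general there is a normal subsystem over `T₁ ⊔ T₂` (Theorem C for the `p'`-residuals).
-/

set_option autoImplicit false

namespace Cfsg.Agent.CPS

open Cfsg Cfsg.FusionSystem Cfsg.Agent.Lead

variable {Ω : Type*} [Group Ω] {S : Subgroup Ω}

/-- Theorem C. -/
theorem cps_main [Finite S] (p : ℕ) [Fact p.Prime] {F : FusionSystem S} {T₁ T₂ : Subgroup Ω}
    {E₁ : FusionSystem T₁} {E₂ : FusionSystem T₂} (h : Setup p F E₁ E₂) :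
    ∃ D : FusionSystem (T₁ ⊔ T₂), D.IsNormalIn F p ∧
      Cfsg.FusionSystem.IsCentralProductOf E₁ E₂ D := by
  have hT₁ : F.StronglyClosed T₁ := h.n₁.1.2.2.2.1
  have hT₂ : F.StronglyClosed T₂ := h.n₂.1.2.2.2.1
  obtain ⟨D, hcp, hsat, hmaps⟩ := cps_exists p h.hS hT₁.1 hT₂.1 E₁ E₂ h.n₁.1.1 h.n₂.1.1 h.comm
    h.z₁ h.z₂
  have hsub := cps_le p h D hmaps
  have hSI := cps_SI p h D hmaps
  have hTsc : F.StronglyClosed (T₁ ⊔ T₂) := Fusion.sup_stronglyClosed p h.hS F h.sat T₁ T₂ hT₁ hT₂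
  have hinv : D.IsInvariantIn F := StrongInv.invariant_of_SI p h.hS F h.sat D hsub hTsc hSI
  exact ⟨D, ⟨⟨hsat, h.sat, hinv⟩, cps_extCond p h D hmaps⟩, hcp⟩

/-- In general (no centrality hypothesis) there is a normal subsystem of `F` over `T₁ ⊔ T₂`. -/
theorem cps_normal_exists [Finite S] (p : ℕ) [Fact p.Prime] (hS : IsPGroup p S) (F : FusionSystem S)
    (hF : F.IsSaturated p) {T₁ T₂ : Subgroup Ω} (E₁ : FusionSystem T₁) (E₂ : FusionSystem T₂)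
    (hE₁ : E₁.IsNormalIn F p) (hE₂ : E₂.IsNormalIn F p) (hc : CpsComm T₁ T₂) :
    ∃ D : FusionSystem (T₁ ⊔ T₂), D.IsNormalIn F p := by
  have hT₁ : F.StronglyClosed T₁ := hE₁.1.2.2.2.1
  have hT₂ : F.StronglyClosed T₂ := hE₂.1.2.2.2.1
  have hZ₀ := cps_ext_inf_stronglyClosed F hT₁ hT₂
  have hZc₁ : T₁ ⊓ T₂ ≤ Subgroup.centralizer (T₁ : Set Ω) := by
    intro z hz
    rw [Subgroup.mem_centralizer_iff]
    intro t ht
    exact hc t ht z (Subgroup.mem_inf.mp hz).2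
  have hZc₂ : T₁ ⊓ T₂ ≤ Subgroup.centralizer (T₂ : Set Ω) := by
    intro z hz
    rw [Subgroup.mem_centralizer_iff]
    intro t ht
    exact (hc z (Subgroup.mem_inf.mp hz).1 t ht).symm
  obtain ⟨O₁, hO₁, hz₁⟩ := cps_pprime_central p hS F hF E₁ hE₁ hZ₀ inf_le_left hZc₁
  obtain ⟨O₂, hO₂, hz₂⟩ := cps_pprime_central p hS F hF E₂ hE₂ hZ₀ inf_le_right hZc₂
  obtain ⟨D, hD, -⟩ := cps_main p (⟨hS, hF, hO₁, hO₂, hc, hz₁, hz₂⟩ : Setup p F O₁ O₂)
  exact ⟨D, hD⟩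

end Cfsg.Agent.CPS
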